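import Cfsg.Agent.Lib.CosetEnum.ON.OrbitsD

set_option autoImplicit false

set_option linter.all false

namespace CfsgLib.CosetEnum.ON

open CfsgLib.CosetEnum

theorem orbitOK_0 : allFrom (fun k => orbitRowOK subTable lab orbPar root 122760 k) 1024 0 = true := by decide +kernel

theorem orbitOK_1024 : allFrom (fun k => orbitRowOK subTable lab orbPar root 122760 k) 1024 1024 = true := by decide +kernel

theorem orbitOK_2048 : allFrom (fun k => orbitRowOK subTable lab orbPar root 122760 k) 1024 2048 = true := by decide +kernel

theorem orbitOK_3072 : allFrom (fun k => orbitRowOK subTable lab orbPar root 122760 k) 1024 3072 = true := by decide +kernel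

theorem orbitOK_4096 : allFrom (fun k => orbitRowOK subTable lab orbPar root 122760 k) 1024 4096 = true := by decide +kernel

theorem orbitOK_5120 : allFrom (fun k => orbitRowOK subTable lab orbPar root 122760 k) 1024 5120 = true := by decide +kernel

theorem orbitOK_6144 : allFrom (fun k => orbitRowOK subTable lab orbPar root 122760 k) 1024 6144 = true := by decide +kernel

theorem orbitOK_7168 : allFrom (fun k => orbitRowOK subTable lab orbPar root 122760 k) 1024 7168 = true := by decide +kernel

theorem orbitOK_8192 : allFrom (fun k => orbitRowOK subTable lab orbPar root 122760 k) 1024 8192 = true := by decide +kernel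

theorem orbitOK_9216 : allFrom (fun k => orbitRowOK subTable lab orbPar root 122760 k) 1024 9216 = true := by decide +kernel

theorem orbitOK_10240 : allFrom (fun k => orbitRowOK subTable lab orbPar root 122760 k) 1024 10240 = true := by decide +kernel

theorem orbitOK_11264 : allFrom (fun k => orbitRowOK subTable lab orbPar root 122760 k) 1024 11264 = true := by decide +kernel

theorem orbitOK_12288 : allFrom (fun k => orbitRowOK subTable lab orbPar root 122760 k) 1024 12288 = true := by decide +kernel

theorem orbitOK_13312 : allFrom (fun k => orbitRowOK subTable lab orbPar root 122760 k) 1024 13312 = true := by decide +kernel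

theorem orbitOK_14336 : allFrom (fun k => orbitRowOK subTable lab orbPar root 122760 k) 1024 14336 = true := by decide +kernel

theorem orbitOK_15360 : allFrom (fun k => orbitRowOK subTable lab orbPar root 122760 k) 1024 15360 = true := by decide +kernel

theorem orbitOK_16384 : allFrom (fun k => orbitRowOK subTable lab orbPar root 122760 k) 1024 16384 = true := by decide +kernel

theorem orbitOK_17408 : allFrom (fun k => orbitRowOK subTable lab orbPar root 122760 k) 1024 17408 = true := by decide +kernel

theorem orbitOK_18432 : allFrom (fun k => orbitRowOK subTable lab orbPar root 122760 k) 1024 18432 = true := by decide +kernel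

theorem orbitOK_19456 : allFrom (fun k => orbitRowOK subTable lab orbPar root 122760 k) 1024 19456 = true := by decide +kernel

theorem orbitOK_20480 : allFrom (fun k => orbitRowOK subTable lab orbPar root 122760 k) 1024 20480 = true := by decide +kernel

theorem orbitOK_21504 : allFrom (fun k => orbitRowOK subTable lab orbPar root 122760 k) 1024 21504 = true := by decide +kernel

theorem orbitOK_22528 : allFrom (fun k => orbitRowOK subTable lab orbPar root 122760 k) 1024 22528 = true := by decide +kernel

theorem orbitOK_23552 : allFrom (fun k => orbitRowOK subTable lab orbPar root 122760 k) 1024 23552 = true := by decide +kernel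

theorem orbitOK_24576 : allFrom (fun k => orbitRowOK subTable lab orbPar root 122760 k) 1024 24576 = true := by decide +kernel

theorem orbitOK_25600 : allFrom (fun k => orbitRowOK subTable lab orbPar root 122760 k) 1024 25600 = true := by decide +kernel

theorem orbitOK_26624 : allFrom (fun k => orbitRowOK subTable lab orbPar root 122760 k) 1024 26624 = true := by decide +kernel

theorem orbitOK_27648 : allFrom (fun k => orbitRowOK subTable lab orbPar root 122760 k) 1024 27648 = true := by decide +kernel

theorem orbitOK_28672 : allFrom (fun k => orbitRowOK subTable lab orbPar root 122760 k) 1024 28672 = true := by decide +kernel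

theorem orbitOK_29696 : allFrom (fun k => orbitRowOK subTable lab orbPar root 122760 k) 1024 29696 = true := by decide +kernel

end CfsgLib.CosetEnum.ON
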