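import Cfsg.Agent.Lib.CosetEnum.ON.OrbitsD

set_option autoImplicit false

set_option linter.all false

namespace CfsgLib.CosetEnum.ON

open CfsgLib.CosetEnum

theorem orbitOK_30720 : allFrom (fun k => orbitRowOK subTable lab orbPar root 122760 k) 1024 30720 = true := by decide +kernel

theorem orbitOK_31744 : allFrom (fun k => orbitRowOK subTable lab orbPar root 122760 k) 1024 31744 = true := by decide +kernel

theorem orbitOK_32768 : allFrom (fun k => orbitRowOK subTable lab orbPar root 122760 k) 1024 32768 = true := by decide +kernel

theorem orbitOK_33792 : allFrom (fun k => orbitRowOK subTable lab orbPar root 122760 k) 1024 33792 = true := by decide +kernel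

theorem orbitOK_34816 : allFrom (fun k => orbitRowOK subTable lab orbPar root 122760 k) 1024 34816 = true := by decide +kernel

theorem orbitOK_35840 : allFrom (fun k => orbitRowOK subTable lab orbPar root 122760 k) 1024 35840 = true := by decide +kernel

theorem orbitOK_36864 : allFrom (fun k => orbitRowOK subTable lab orbPar root 122760 k) 1024 36864 = true := by decide +kernel

theorem orbitOK_37888 : allFrom (fun k => orbitRowOK subTable lab orbPar root 122760 k) 1024 37888 = true := by decide +kernel

theorem orbitOK_38912 : allFrom (fun k => orbitRowOK subTable lab orbPar root 122760 k) 1024 38912 = true := by decide +kernel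

theorem orbitOK_39936 : allFrom (fun k => orbitRowOK subTable lab orbPar root 122760 k) 1024 39936 = true := by decide +kernel

theorem orbitOK_40960 : allFrom (fun k => orbitRowOK subTable lab orbPar root 122760 k) 1024 40960 = true := by decide +kernel

theorem orbitOK_41984 : allFrom (fun k => orbitRowOK subTable lab orbPar root 122760 k) 1024 41984 = true := by decide +kernel

theorem orbitOK_43008 : allFrom (fun k => orbitRowOK subTable lab orbPar root 122760 k) 1024 43008 = true := by decide +kernel

theorem orbitOK_44032 : allFrom (fun k => orbitRowOK subTable lab orbPar root 122760 k) 1024 44032 = true := by decide +kernel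

theorem orbitOK_45056 : allFrom (fun k => orbitRowOK subTable lab orbPar root 122760 k) 1024 45056 = true := by decide +kernel

theorem orbitOK_46080 : allFrom (fun k => orbitRowOK subTable lab orbPar root 122760 k) 1024 46080 = true := by decide +kernel

theorem orbitOK_47104 : allFrom (fun k => orbitRowOK subTable lab orbPar root 122760 k) 1024 47104 = true := by decide +kernel

theorem orbitOK_48128 : allFrom (fun k => orbitRowOK subTable lab orbPar root 122760 k) 1024 48128 = true := by decide +kernel

theorem orbitOK_49152 : allFrom (fun k => orbitRowOK subTable lab orbPar root 122760 k) 1024 49152 = true := by decide +kernel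

theorem orbitOK_50176 : allFrom (fun k => orbitRowOK subTable lab orbPar root 122760 k) 1024 50176 = true := by decide +kernel

theorem orbitOK_51200 : allFrom (fun k => orbitRowOK subTable lab orbPar root 122760 k) 1024 51200 = true := by decide +kernel

theorem orbitOK_52224 : allFrom (fun k => orbitRowOK subTable lab orbPar root 122760 k) 1024 52224 = true := by decide +kernel

theorem orbitOK_53248 : allFrom (fun k => orbitRowOK subTable lab orbPar root 122760 k) 1024 53248 = true := by decide +kernel

theorem orbitOK_54272 : allFrom (fun k => orbitRowOK subTable lab orbPar root 122760 k) 1024 54272 = true := by decide +kernel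

theorem orbitOK_55296 : allFrom (fun k => orbitRowOK subTable lab orbPar root 122760 k) 1024 55296 = true := by decide +kernel

theorem orbitOK_56320 : allFrom (fun k => orbitRowOK subTable lab orbPar root 122760 k) 1024 56320 = true := by decide +kernel

theorem orbitOK_57344 : allFrom (fun k => orbitRowOK subTable lab orbPar root 122760 k) 1024 57344 = true := by decide +kernel

theorem orbitOK_58368 : allFrom (fun k => orbitRowOK subTable lab orbPar root 122760 k) 1024 58368 = true := by decide +kernel

theorem orbitOK_59392 : allFrom (fun k => orbitRowOK subTable lab orbPar root 122760 k) 1024 59392 = true := by decide +kernel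

theorem orbitOK_60416 : allFrom (fun k => orbitRowOK subTable lab orbPar root 122760 k) 1024 60416 = true := by decide +kernel

end CfsgLib.CosetEnum.ON
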