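import Cfsg.Agent.Lib.CosetEnum.ON.OrbitsD

set_option autoImplicit false

set_option linter.all false

namespace CfsgLib.CosetEnum.ON

open CfsgLib.CosetEnum

theorem orbitOK_61440 : allFrom (fun k => orbitRowOK subTable lab orbPar root 122760 k) 1024 61440 = true := by decide +kernel

theorem orbitOK_62464 : allFrom (fun k => orbitRowOK subTable lab orbPar root 122760 k) 1024 62464 = true := by decide +kernel

theorem orbitOK_63488 : allFrom (fun k => orbitRowOK subTable lab orbPar root 122760 k) 1024 63488 = true := by decide +kernel

theorem orbitOK_64512 : allFrom (fun k => orbitRowOK subTable lab orbPar root 122760 k) 1024 64512 = true := by decide +kernel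

theorem orbitOK_65536 : allFrom (fun k => orbitRowOK subTable lab orbPar root 122760 k) 1024 65536 = true := by decide +kernel

theorem orbitOK_66560 : allFrom (fun k => orbitRowOK subTable lab orbPar root 122760 k) 1024 66560 = true := by decide +kernel

theorem orbitOK_67584 : allFrom (fun k => orbitRowOK subTable lab orbPar root 122760 k) 1024 67584 = true := by decide +kernel

theorem orbitOK_68608 : allFrom (fun k => orbitRowOK subTable lab orbPar root 122760 k) 1024 68608 = true := by decide +kernel

theorem orbitOK_69632 : allFrom (fun k => orbitRowOK subTable lab orbPar root 122760 k) 1024 69632 = true := by decide +kernel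

theorem orbitOK_70656 : allFrom (fun k => orbitRowOK subTable lab orbPar root 122760 k) 1024 70656 = true := by decide +kernel

theorem orbitOK_71680 : allFrom (fun k => orbitRowOK subTable lab orbPar root 122760 k) 1024 71680 = true := by decide +kernel

theorem orbitOK_72704 : allFrom (fun k => orbitRowOK subTable lab orbPar root 122760 k) 1024 72704 = true := by decide +kernel

theorem orbitOK_73728 : allFrom (fun k => orbitRowOK subTable lab orbPar root 122760 k) 1024 73728 = true := by decide +kernel

theorem orbitOK_74752 : allFrom (fun k => orbitRowOK subTable lab orbPar root 122760 k) 1024 74752 = true := by decide +kernel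

theorem orbitOK_75776 : allFrom (fun k => orbitRowOK subTable lab orbPar root 122760 k) 1024 75776 = true := by decide +kernel

theorem orbitOK_76800 : allFrom (fun k => orbitRowOK subTable lab orbPar root 122760 k) 1024 76800 = true := by decide +kernel

theorem orbitOK_77824 : allFrom (fun k => orbitRowOK subTable lab orbPar root 122760 k) 1024 77824 = true := by decide +kernel

theorem orbitOK_78848 : allFrom (fun k => orbitRowOK subTable lab orbPar root 122760 k) 1024 78848 = true := by decide +kernel

theorem orbitOK_79872 : allFrom (fun k => orbitRowOK subTable lab orbPar root 122760 k) 1024 79872 = true := by decide +kernel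

theorem orbitOK_80896 : allFrom (fun k => orbitRowOK subTable lab orbPar root 122760 k) 1024 80896 = true := by decide +kernel

theorem orbitOK_81920 : allFrom (fun k => orbitRowOK subTable lab orbPar root 122760 k) 1024 81920 = true := by decide +kernel

theorem orbitOK_82944 : allFrom (fun k => orbitRowOK subTable lab orbPar root 122760 k) 1024 82944 = true := by decide +kernel

theorem orbitOK_83968 : allFrom (fun k => orbitRowOK subTable lab orbPar root 122760 k) 1024 83968 = true := by decide +kernel

theorem orbitOK_84992 : allFrom (fun k => orbitRowOK subTable lab orbPar root 122760 k) 1024 84992 = true := by decide +kernel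

theorem orbitOK_86016 : allFrom (fun k => orbitRowOK subTable lab orbPar root 122760 k) 1024 86016 = true := by decide +kernel

theorem orbitOK_87040 : allFrom (fun k => orbitRowOK subTable lab orbPar root 122760 k) 1024 87040 = true := by decide +kernel

theorem orbitOK_88064 : allFrom (fun k => orbitRowOK subTable lab orbPar root 122760 k) 1024 88064 = true := by decide +kernel

theorem orbitOK_89088 : allFrom (fun k => orbitRowOK subTable lab orbPar root 122760 k) 1024 89088 = true := by decide +kernel

theorem orbitOK_90112 : allFrom (fun k => orbitRowOK subTable lab orbPar root 122760 k) 1024 90112 = true := by decide +kernel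

theorem orbitOK_91136 : allFrom (fun k => orbitRowOK subTable lab orbPar root 122760 k) 1024 91136 = true := by decide +kernel

end CfsgLib.CosetEnum.ON
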