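import Cfsg.Agent.Lib.CosetEnum.ON.OrbitsD

set_option autoImplicit false

set_option linter.all false

namespace CfsgLib.CosetEnum.ON

open CfsgLib.CosetEnum

theorem orbitOK_92160 : allFrom (fun k => orbitRowOK subTable lab orbPar root 122760 k) 1024 92160 = true := by decide +kernel

theorem orbitOK_93184 : allFrom (fun k => orbitRowOK subTable lab orbPar root 122760 k) 1024 93184 = true := by decide +kernel

theorem orbitOK_94208 : allFrom (fun k => orbitRowOK subTable lab orbPar root 122760 k) 1024 94208 = true := by decide +kernel

theorem orbitOK_95232 : allFrom (fun k => orbitRowOK subTable lab orbPar root 122760 k) 1024 95232 = true := by decide +kernel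

theorem orbitOK_96256 : allFrom (fun k => orbitRowOK subTable lab orbPar root 122760 k) 1024 96256 = true := by decide +kernel

theorem orbitOK_97280 : allFrom (fun k => orbitRowOK subTable lab orbPar root 122760 k) 1024 97280 = true := by decide +kernel

theorem orbitOK_98304 : allFrom (fun k => orbitRowOK subTable lab orbPar root 122760 k) 1024 98304 = true := by decide +kernel

theorem orbitOK_99328 : allFrom (fun k => orbitRowOK subTable lab orbPar root 122760 k) 1024 99328 = true := by decide +kernel

theorem orbitOK_100352 : allFrom (fun k => orbitRowOK subTable lab orbPar root 122760 k) 1024 100352 = true := by decide +kernel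

theorem orbitOK_101376 : allFrom (fun k => orbitRowOK subTable lab orbPar root 122760 k) 1024 101376 = true := by decide +kernel

theorem orbitOK_102400 : allFrom (fun k => orbitRowOK subTable lab orbPar root 122760 k) 1024 102400 = true := by decide +kernel

theorem orbitOK_103424 : allFrom (fun k => orbitRowOK subTable lab orbPar root 122760 k) 1024 103424 = true := by decide +kernel

theorem orbitOK_104448 : allFrom (fun k => orbitRowOK subTable lab orbPar root 122760 k) 1024 104448 = true := by decide +kernel

theorem orbitOK_105472 : allFrom (fun k => orbitRowOK subTable lab orbPar root 122760 k) 1024 105472 = true := by decide +kernel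

theorem orbitOK_106496 : allFrom (fun k => orbitRowOK subTable lab orbPar root 122760 k) 1024 106496 = true := by decide +kernel

theorem orbitOK_107520 : allFrom (fun k => orbitRowOK subTable lab orbPar root 122760 k) 1024 107520 = true := by decide +kernel

theorem orbitOK_108544 : allFrom (fun k => orbitRowOK subTable lab orbPar root 122760 k) 1024 108544 = true := by decide +kernel

theorem orbitOK_109568 : allFrom (fun k => orbitRowOK subTable lab orbPar root 122760 k) 1024 109568 = true := by decide +kernel

theorem orbitOK_110592 : allFrom (fun k => orbitRowOK subTable lab orbPar root 122760 k) 1024 110592 = true := by decide +kernel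

theorem orbitOK_111616 : allFrom (fun k => orbitRowOK subTable lab orbPar root 122760 k) 1024 111616 = true := by decide +kernel

theorem orbitOK_112640 : allFrom (fun k => orbitRowOK subTable lab orbPar root 122760 k) 1024 112640 = true := by decide +kernel

theorem orbitOK_113664 : allFrom (fun k => orbitRowOK subTable lab orbPar root 122760 k) 1024 113664 = true := by decide +kernel

theorem orbitOK_114688 : allFrom (fun k => orbitRowOK subTable lab orbPar root 122760 k) 1024 114688 = true := by decide +kernel

theorem orbitOK_115712 : allFrom (fun k => orbitRowOK subTable lab orbPar root 122760 k) 1024 115712 = true := by decide +kernel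

theorem orbitOK_116736 : allFrom (fun k => orbitRowOK subTable lab orbPar root 122760 k) 1024 116736 = true := by decide +kernel

theorem orbitOK_117760 : allFrom (fun k => orbitRowOK subTable lab orbPar root 122760 k) 1024 117760 = true := by decide +kernel

theorem orbitOK_118784 : allFrom (fun k => orbitRowOK subTable lab orbPar root 122760 k) 1024 118784 = true := by decide +kernel

theorem orbitOK_119808 : allFrom (fun k => orbitRowOK subTable lab orbPar root 122760 k) 1024 119808 = true := by decide +kernel

theorem orbitOK_120832 : allFrom (fun k => orbitRowOK subTable lab orbPar root 122760 k) 1024 120832 = true := by decide +kernel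

theorem orbitOK_121856 : allFrom (fun k => orbitRowOK subTable lab orbPar root 122760 k) 904 121856 = true := by decide +kernel

end CfsgLib.CosetEnum.ON
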