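import Cfsg.Agent.Lib.CosetEnum.ON.Exact
import Cfsg.Agent.Lib.CosetEnum.ON.OrbitsQ0
import Cfsg.Agent.Lib.CosetEnum.ON.OrbitsQ1
import Cfsg.Agent.Lib.CosetEnum.ON.OrbitsQ2
import Cfsg.Agent.Lib.CosetEnum.ON.OrbitsQ3

set_option autoImplicit false

set_option linter.all false

namespace CfsgLib.CosetEnum.ON

open CfsgLib.CosetEnum

theorem orbit_ok_upto1024 : ∀ k < 1024, orbitRowOK subTable lab orbPar root 122760 k = true := fun k hk =>
  have h : 0 ≤ k := Nat.zero_le k
  allFrom_spec _ _ _ orbitOK_0 k h hk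

theorem orbit_ok_upto2048 : ∀ k < 2048, orbitRowOK subTable lab orbPar root 122760 k = true := fun k hk =>
  (Nat.lt_or_ge k 1024).elim (orbit_ok_upto1024 k) fun h =>
    allFrom_spec _ _ _ orbitOK_1024 k h hk

theorem orbit_ok_upto3072 : ∀ k < 3072, orbitRowOK subTable lab orbPar root 122760 k = true := fun k hk =>
  (Nat.lt_or_ge k 2048).elim (orbit_ok_upto2048 k) fun h =>
    allFrom_spec _ _ _ orbitOK_2048 k h hk

theorem orbit_ok_upto4096 : ∀ k < 4096, orbitRowOK subTable lab orbPar root 122760 k = true := fun k hk =>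
  (Nat.lt_or_ge k 3072).elim (orbit_ok_upto3072 k) fun h =>
    allFrom_spec _ _ _ orbitOK_3072 k h hk

theorem orbit_ok_upto5120 : ∀ k < 5120, orbitRowOK subTable lab orbPar root 122760 k = true := fun k hk =>
  (Nat.lt_or_ge k 4096).elim (orbit_ok_upto4096 k) fun h =>
    allFrom_spec _ _ _ orbitOK_4096 k h hk

theorem orbit_ok_upto6144 : ∀ k < 6144, orbitRowOK subTable lab orbPar root 122760 k = true := fun k hk =>
  (Nat.lt_or_ge k 5120).elim (orbit_ok_upto5120 k) fun h =>
    allFrom_spec _ _ _ orbitOK_5120 k h hk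

theorem orbit_ok_upto7168 : ∀ k < 7168, orbitRowOK subTable lab orbPar root 122760 k = true := fun k hk =>
  (Nat.lt_or_ge k 6144).elim (orbit_ok_upto6144 k) fun h =>
    allFrom_spec _ _ _ orbitOK_6144 k h hk

theorem orbit_ok_upto8192 : ∀ k < 8192, orbitRowOK subTable lab orbPar root 122760 k = true := fun k hk =>
  (Nat.lt_or_ge k 7168).elim (orbit_ok_upto7168 k) fun h =>
    allFrom_spec _ _ _ orbitOK_7168 k h hk

theorem orbit_ok_upto9216 : ∀ k < 9216, orbitRowOK subTable lab orbPar root 122760 k = true := fun k hk =>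
  (Nat.lt_or_ge k 8192).elim (orbit_ok_upto8192 k) fun h =>
    allFrom_spec _ _ _ orbitOK_8192 k h hk

theorem orbit_ok_upto10240 : ∀ k < 10240, orbitRowOK subTable lab orbPar root 122760 k = true := fun k hk =>
  (Nat.lt_or_ge k 9216).elim (orbit_ok_upto9216 k) fun h =>
    allFrom_spec _ _ _ orbitOK_9216 k h hk

theorem orbit_ok_upto11264 : ∀ k < 11264, orbitRowOK subTable lab orbPar root 122760 k = true := fun k hk =>
  (Nat.lt_or_ge k 10240).elim (orbit_ok_upto10240 k) fun h =>
    allFrom_spec _ _ _ orbitOK_10240 k h hk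

theorem orbit_ok_upto12288 : ∀ k < 12288, orbitRowOK subTable lab orbPar root 122760 k = true := fun k hk =>
  (Nat.lt_or_ge k 11264).elim (orbit_ok_upto11264 k) fun h =>
    allFrom_spec _ _ _ orbitOK_11264 k h hk

theorem orbit_ok_upto13312 : ∀ k < 13312, orbitRowOK subTable lab orbPar root 122760 k = true := fun k hk =>
  (Nat.lt_or_ge k 12288).elim (orbit_ok_upto12288 k) fun h =>
    allFrom_spec _ _ _ orbitOK_12288 k h hk

theorem orbit_ok_upto14336 : ∀ k < 14336, orbitRowOK subTable lab orbPar root 122760 k = true := fun k hk =>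
  (Nat.lt_or_ge k 13312).elim (orbit_ok_upto13312 k) fun h =>
    allFrom_spec _ _ _ orbitOK_13312 k h hk

theorem orbit_ok_upto15360 : ∀ k < 15360, orbitRowOK subTable lab orbPar root 122760 k = true := fun k hk =>
  (Nat.lt_or_ge k 14336).elim (orbit_ok_upto14336 k) fun h =>
    allFrom_spec _ _ _ orbitOK_14336 k h hk

theorem orbit_ok_upto16384 : ∀ k < 16384, orbitRowOK subTable lab orbPar root 122760 k = true := fun k hk =>
  (Nat.lt_or_ge k 15360).elim (orbit_ok_upto15360 k) fun h =>
    allFrom_spec _ _ _ orbitOK_15360 k h hk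

theorem orbit_ok_upto17408 : ∀ k < 17408, orbitRowOK subTable lab orbPar root 122760 k = true := fun k hk =>
  (Nat.lt_or_ge k 16384).elim (orbit_ok_upto16384 k) fun h =>
    allFrom_spec _ _ _ orbitOK_16384 k h hk

theorem orbit_ok_upto18432 : ∀ k < 18432, orbitRowOK subTable lab orbPar root 122760 k = true := fun k hk =>
  (Nat.lt_or_ge k 17408).elim (orbit_ok_upto17408 k) fun h =>
    allFrom_spec _ _ _ orbitOK_17408 k h hk

theorem orbit_ok_upto19456 : ∀ k < 19456, orbitRowOK subTable lab orbPar root 122760 k = true := fun k hk =>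
  (Nat.lt_or_ge k 18432).elim (orbit_ok_upto18432 k) fun h =>
    allFrom_spec _ _ _ orbitOK_18432 k h hk

theorem orbit_ok_upto20480 : ∀ k < 20480, orbitRowOK subTable lab orbPar root 122760 k = true := fun k hk =>
  (Nat.lt_or_ge k 19456).elim (orbit_ok_upto19456 k) fun h =>
    allFrom_spec _ _ _ orbitOK_19456 k h hk

theorem orbit_ok_upto21504 : ∀ k < 21504, orbitRowOK subTable lab orbPar root 122760 k = true := fun k hk =>
  (Nat.lt_or_ge k 20480).elim (orbit_ok_upto20480 k) fun h =>
    allFrom_spec _ _ _ orbitOK_20480 k h hk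

theorem orbit_ok_upto22528 : ∀ k < 22528, orbitRowOK subTable lab orbPar root 122760 k = true := fun k hk =>
  (Nat.lt_or_ge k 21504).elim (orbit_ok_upto21504 k) fun h =>
    allFrom_spec _ _ _ orbitOK_21504 k h hk

theorem orbit_ok_upto23552 : ∀ k < 23552, orbitRowOK subTable lab orbPar root 122760 k = true := fun k hk =>
  (Nat.lt_or_ge k 22528).elim (orbit_ok_upto22528 k) fun h =>
    allFrom_spec _ _ _ orbitOK_22528 k h hk

theorem orbit_ok_upto24576 : ∀ k < 24576, orbitRowOK subTable lab orbPar root 122760 k = true := fun k hk =>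
  (Nat.lt_or_ge k 23552).elim (orbit_ok_upto23552 k) fun h =>
    allFrom_spec _ _ _ orbitOK_23552 k h hk

theorem orbit_ok_upto25600 : ∀ k < 25600, orbitRowOK subTable lab orbPar root 122760 k = true := fun k hk =>
  (Nat.lt_or_ge k 24576).elim (orbit_ok_upto24576 k) fun h =>
    allFrom_spec _ _ _ orbitOK_24576 k h hk

theorem orbit_ok_upto26624 : ∀ k < 26624, orbitRowOK subTable lab orbPar root 122760 k = true := fun k hk =>
  (Nat.lt_or_ge k 25600).elim (orbit_ok_upto25600 k) fun h =>
    allFrom_spec _ _ _ orbitOK_25600 k h hk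

theorem orbit_ok_upto27648 : ∀ k < 27648, orbitRowOK subTable lab orbPar root 122760 k = true := fun k hk =>
  (Nat.lt_or_ge k 26624).elim (orbit_ok_upto26624 k) fun h =>
    allFrom_spec _ _ _ orbitOK_26624 k h hk

theorem orbit_ok_upto28672 : ∀ k < 28672, orbitRowOK subTable lab orbPar root 122760 k = true := fun k hk =>
  (Nat.lt_or_ge k 27648).elim (orbit_ok_upto27648 k) fun h =>
    allFrom_spec _ _ _ orbitOK_27648 k h hk

theorem orbit_ok_upto29696 : ∀ k < 29696, orbitRowOK subTable lab orbPar root 122760 k = true := fun k hk =>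
  (Nat.lt_or_ge k 28672).elim (orbit_ok_upto28672 k) fun h =>
    allFrom_spec _ _ _ orbitOK_28672 k h hk

theorem orbit_ok_upto30720 : ∀ k < 30720, orbitRowOK subTable lab orbPar root 122760 k = true := fun k hk =>
  (Nat.lt_or_ge k 29696).elim (orbit_ok_upto29696 k) fun h =>
    allFrom_spec _ _ _ orbitOK_29696 k h hk

theorem orbit_ok_upto31744 : ∀ k < 31744, orbitRowOK subTable lab orbPar root 122760 k = true := fun k hk =>
  (Nat.lt_or_ge k 30720).elim (orbit_ok_upto30720 k) fun h =>
    allFrom_spec _ _ _ orbitOK_30720 k h hk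

theorem orbit_ok_upto32768 : ∀ k < 32768, orbitRowOK subTable lab orbPar root 122760 k = true := fun k hk =>
  (Nat.lt_or_ge k 31744).elim (orbit_ok_upto31744 k) fun h =>
    allFrom_spec _ _ _ orbitOK_31744 k h hk

theorem orbit_ok_upto33792 : ∀ k < 33792, orbitRowOK subTable lab orbPar root 122760 k = true := fun k hk =>
  (Nat.lt_or_ge k 32768).elim (orbit_ok_upto32768 k) fun h =>
    allFrom_spec _ _ _ orbitOK_32768 k h hk

theorem orbit_ok_upto34816 : ∀ k < 34816, orbitRowOK subTable lab orbPar root 122760 k = true := fun k hk =>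
  (Nat.lt_or_ge k 33792).elim (orbit_ok_upto33792 k) fun h =>
    allFrom_spec _ _ _ orbitOK_33792 k h hk

theorem orbit_ok_upto35840 : ∀ k < 35840, orbitRowOK subTable lab orbPar root 122760 k = true := fun k hk =>
  (Nat.lt_or_ge k 34816).elim (orbit_ok_upto34816 k) fun h =>
    allFrom_spec _ _ _ orbitOK_34816 k h hk

theorem orbit_ok_upto36864 : ∀ k < 36864, orbitRowOK subTable lab orbPar root 122760 k = true := fun k hk =>
  (Nat.lt_or_ge k 35840).elim (orbit_ok_upto35840 k) fun h =>
    allFrom_spec _ _ _ orbitOK_35840 k h hk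

theorem orbit_ok_upto37888 : ∀ k < 37888, orbitRowOK subTable lab orbPar root 122760 k = true := fun k hk =>
  (Nat.lt_or_ge k 36864).elim (orbit_ok_upto36864 k) fun h =>
    allFrom_spec _ _ _ orbitOK_36864 k h hk

theorem orbit_ok_upto38912 : ∀ k < 38912, orbitRowOK subTable lab orbPar root 122760 k = true := fun k hk =>
  (Nat.lt_or_ge k 37888).elim (orbit_ok_upto37888 k) fun h =>
    allFrom_spec _ _ _ orbitOK_37888 k h hk

theorem orbit_ok_upto39936 : ∀ k < 39936, orbitRowOK subTable lab orbPar root 122760 k = true := fun k hk =>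
  (Nat.lt_or_ge k 38912).elim (orbit_ok_upto38912 k) fun h =>
    allFrom_spec _ _ _ orbitOK_38912 k h hk

theorem orbit_ok_upto40960 : ∀ k < 40960, orbitRowOK subTable lab orbPar root 122760 k = true := fun k hk =>
  (Nat.lt_or_ge k 39936).elim (orbit_ok_upto39936 k) fun h =>
    allFrom_spec _ _ _ orbitOK_39936 k h hk

theorem orbit_ok_upto41984 : ∀ k < 41984, orbitRowOK subTable lab orbPar root 122760 k = true := fun k hk =>
  (Nat.lt_or_ge k 40960).elim (orbit_ok_upto40960 k) fun h =>
    allFrom_spec _ _ _ orbitOK_40960 k h hk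

theorem orbit_ok_upto43008 : ∀ k < 43008, orbitRowOK subTable lab orbPar root 122760 k = true := fun k hk =>
  (Nat.lt_or_ge k 41984).elim (orbit_ok_upto41984 k) fun h =>
    allFrom_spec _ _ _ orbitOK_41984 k h hk

theorem orbit_ok_upto44032 : ∀ k < 44032, orbitRowOK subTable lab orbPar root 122760 k = true := fun k hk =>
  (Nat.lt_or_ge k 43008).elim (orbit_ok_upto43008 k) fun h =>
    allFrom_spec _ _ _ orbitOK_43008 k h hk

theorem orbit_ok_upto45056 : ∀ k < 45056, orbitRowOK subTable lab orbPar root 122760 k = true := fun k hk =>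
  (Nat.lt_or_ge k 44032).elim (orbit_ok_upto44032 k) fun h =>
    allFrom_spec _ _ _ orbitOK_44032 k h hk

theorem orbit_ok_upto46080 : ∀ k < 46080, orbitRowOK subTable lab orbPar root 122760 k = true := fun k hk =>
  (Nat.lt_or_ge k 45056).elim (orbit_ok_upto45056 k) fun h =>
    allFrom_spec _ _ _ orbitOK_45056 k h hk

theorem orbit_ok_upto47104 : ∀ k < 47104, orbitRowOK subTable lab orbPar root 122760 k = true := fun k hk =>
  (Nat.lt_or_ge k 46080).elim (orbit_ok_upto46080 k) fun h =>
    allFrom_spec _ _ _ orbitOK_46080 k h hk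

theorem orbit_ok_upto48128 : ∀ k < 48128, orbitRowOK subTable lab orbPar root 122760 k = true := fun k hk =>
  (Nat.lt_or_ge k 47104).elim (orbit_ok_upto47104 k) fun h =>
    allFrom_spec _ _ _ orbitOK_47104 k h hk

theorem orbit_ok_upto49152 : ∀ k < 49152, orbitRowOK subTable lab orbPar root 122760 k = true := fun k hk =>
  (Nat.lt_or_ge k 48128).elim (orbit_ok_upto48128 k) fun h =>
    allFrom_spec _ _ _ orbitOK_48128 k h hk

theorem orbit_ok_upto50176 : ∀ k < 50176, orbitRowOK subTable lab orbPar root 122760 k = true := fun k hk =>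
  (Nat.lt_or_ge k 49152).elim (orbit_ok_upto49152 k) fun h =>
    allFrom_spec _ _ _ orbitOK_49152 k h hk

theorem orbit_ok_upto51200 : ∀ k < 51200, orbitRowOK subTable lab orbPar root 122760 k = true := fun k hk =>
  (Nat.lt_or_ge k 50176).elim (orbit_ok_upto50176 k) fun h =>
    allFrom_spec _ _ _ orbitOK_50176 k h hk

theorem orbit_ok_upto52224 : ∀ k < 52224, orbitRowOK subTable lab orbPar root 122760 k = true := fun k hk =>
  (Nat.lt_or_ge k 51200).elim (orbit_ok_upto51200 k) fun h =>
    allFrom_spec _ _ _ orbitOK_51200 k h hk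

theorem orbit_ok_upto53248 : ∀ k < 53248, orbitRowOK subTable lab orbPar root 122760 k = true := fun k hk =>
  (Nat.lt_or_ge k 52224).elim (orbit_ok_upto52224 k) fun h =>
    allFrom_spec _ _ _ orbitOK_52224 k h hk

theorem orbit_ok_upto54272 : ∀ k < 54272, orbitRowOK subTable lab orbPar root 122760 k = true := fun k hk =>
  (Nat.lt_or_ge k 53248).elim (orbit_ok_upto53248 k) fun h =>
    allFrom_spec _ _ _ orbitOK_53248 k h hk

theorem orbit_ok_upto55296 : ∀ k < 55296, orbitRowOK subTable lab orbPar root 122760 k = true := fun k hk =>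
  (Nat.lt_or_ge k 54272).elim (orbit_ok_upto54272 k) fun h =>
    allFrom_spec _ _ _ orbitOK_54272 k h hk

theorem orbit_ok_upto56320 : ∀ k < 56320, orbitRowOK subTable lab orbPar root 122760 k = true := fun k hk =>
  (Nat.lt_or_ge k 55296).elim (orbit_ok_upto55296 k) fun h =>
    allFrom_spec _ _ _ orbitOK_55296 k h hk

theorem orbit_ok_upto57344 : ∀ k < 57344, orbitRowOK subTable lab orbPar root 122760 k = true := fun k hk =>
  (Nat.lt_or_ge k 56320).elim (orbit_ok_upto56320 k) fun h =>
    allFrom_spec _ _ _ orbitOK_56320 k h hk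

theorem orbit_ok_upto58368 : ∀ k < 58368, orbitRowOK subTable lab orbPar root 122760 k = true := fun k hk =>
  (Nat.lt_or_ge k 57344).elim (orbit_ok_upto57344 k) fun h =>
    allFrom_spec _ _ _ orbitOK_57344 k h hk

theorem orbit_ok_upto59392 : ∀ k < 59392, orbitRowOK subTable lab orbPar root 122760 k = true := fun k hk =>
  (Nat.lt_or_ge k 58368).elim (orbit_ok_upto58368 k) fun h =>
    allFrom_spec _ _ _ orbitOK_58368 k h hk

theorem orbit_ok_upto60416 : ∀ k < 60416, orbitRowOK subTable lab orbPar root 122760 k = true := fun k hk =>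
  (Nat.lt_or_ge k 59392).elim (orbit_ok_upto59392 k) fun h =>
    allFrom_spec _ _ _ orbitOK_59392 k h hk

theorem orbit_ok_upto61440 : ∀ k < 61440, orbitRowOK subTable lab orbPar root 122760 k = true := fun k hk =>
  (Nat.lt_or_ge k 60416).elim (orbit_ok_upto60416 k) fun h =>
    allFrom_spec _ _ _ orbitOK_60416 k h hk

theorem orbit_ok_upto62464 : ∀ k < 62464, orbitRowOK subTable lab orbPar root 122760 k = true := fun k hk =>
  (Nat.lt_or_ge k 61440).elim (orbit_ok_upto61440 k) fun h =>
    allFrom_spec _ _ _ orbitOK_61440 k h hk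

theorem orbit_ok_upto63488 : ∀ k < 63488, orbitRowOK subTable lab orbPar root 122760 k = true := fun k hk =>
  (Nat.lt_or_ge k 62464).elim (orbit_ok_upto62464 k) fun h =>
    allFrom_spec _ _ _ orbitOK_62464 k h hk

theorem orbit_ok_upto64512 : ∀ k < 64512, orbitRowOK subTable lab orbPar root 122760 k = true := fun k hk =>
  (Nat.lt_or_ge k 63488).elim (orbit_ok_upto63488 k) fun h =>
    allFrom_spec _ _ _ orbitOK_63488 k h hk

theorem orbit_ok_upto65536 : ∀ k < 65536, orbitRowOK subTable lab orbPar root 122760 k = true := fun k hk =>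
  (Nat.lt_or_ge k 64512).elim (orbit_ok_upto64512 k) fun h =>
    allFrom_spec _ _ _ orbitOK_64512 k h hk

theorem orbit_ok_upto66560 : ∀ k < 66560, orbitRowOK subTable lab orbPar root 122760 k = true := fun k hk =>
  (Nat.lt_or_ge k 65536).elim (orbit_ok_upto65536 k) fun h =>
    allFrom_spec _ _ _ orbitOK_65536 k h hk

theorem orbit_ok_upto67584 : ∀ k < 67584, orbitRowOK subTable lab orbPar root 122760 k = true := fun k hk =>
  (Nat.lt_or_ge k 66560).elim (orbit_ok_upto66560 k) fun h =>
    allFrom_spec _ _ _ orbitOK_66560 k h hk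

theorem orbit_ok_upto68608 : ∀ k < 68608, orbitRowOK subTable lab orbPar root 122760 k = true := fun k hk =>
  (Nat.lt_or_ge k 67584).elim (orbit_ok_upto67584 k) fun h =>
    allFrom_spec _ _ _ orbitOK_67584 k h hk

theorem orbit_ok_upto69632 : ∀ k < 69632, orbitRowOK subTable lab orbPar root 122760 k = true := fun k hk =>
  (Nat.lt_or_ge k 68608).elim (orbit_ok_upto68608 k) fun h =>
    allFrom_spec _ _ _ orbitOK_68608 k h hk

theorem orbit_ok_upto70656 : ∀ k < 70656, orbitRowOK subTable lab orbPar root 122760 k = true := fun k hk =>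
  (Nat.lt_or_ge k 69632).elim (orbit_ok_upto69632 k) fun h =>
    allFrom_spec _ _ _ orbitOK_69632 k h hk

theorem orbit_ok_upto71680 : ∀ k < 71680, orbitRowOK subTable lab orbPar root 122760 k = true := fun k hk =>
  (Nat.lt_or_ge k 70656).elim (orbit_ok_upto70656 k) fun h =>
    allFrom_spec _ _ _ orbitOK_70656 k h hk

theorem orbit_ok_upto72704 : ∀ k < 72704, orbitRowOK subTable lab orbPar root 122760 k = true := fun k hk =>
  (Nat.lt_or_ge k 71680).elim (orbit_ok_upto71680 k) fun h =>
    allFrom_spec _ _ _ orbitOK_71680 k h hk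

theorem orbit_ok_upto73728 : ∀ k < 73728, orbitRowOK subTable lab orbPar root 122760 k = true := fun k hk =>
  (Nat.lt_or_ge k 72704).elim (orbit_ok_upto72704 k) fun h =>
    allFrom_spec _ _ _ orbitOK_72704 k h hk

theorem orbit_ok_upto74752 : ∀ k < 74752, orbitRowOK subTable lab orbPar root 122760 k = true := fun k hk =>
  (Nat.lt_or_ge k 73728).elim (orbit_ok_upto73728 k) fun h =>
    allFrom_spec _ _ _ orbitOK_73728 k h hk

theorem orbit_ok_upto75776 : ∀ k < 75776, orbitRowOK subTable lab orbPar root 122760 k = true := fun k hk =>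
  (Nat.lt_or_ge k 74752).elim (orbit_ok_upto74752 k) fun h =>
    allFrom_spec _ _ _ orbitOK_74752 k h hk

theorem orbit_ok_upto76800 : ∀ k < 76800, orbitRowOK subTable lab orbPar root 122760 k = true := fun k hk =>
  (Nat.lt_or_ge k 75776).elim (orbit_ok_upto75776 k) fun h =>
    allFrom_spec _ _ _ orbitOK_75776 k h hk

theorem orbit_ok_upto77824 : ∀ k < 77824, orbitRowOK subTable lab orbPar root 122760 k = true := fun k hk =>
  (Nat.lt_or_ge k 76800).elim (orbit_ok_upto76800 k) fun h =>
    allFrom_spec _ _ _ orbitOK_76800 k h hk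

theorem orbit_ok_upto78848 : ∀ k < 78848, orbitRowOK subTable lab orbPar root 122760 k = true := fun k hk =>
  (Nat.lt_or_ge k 77824).elim (orbit_ok_upto77824 k) fun h =>
    allFrom_spec _ _ _ orbitOK_77824 k h hk

theorem orbit_ok_upto79872 : ∀ k < 79872, orbitRowOK subTable lab orbPar root 122760 k = true := fun k hk =>
  (Nat.lt_or_ge k 78848).elim (orbit_ok_upto78848 k) fun h =>
    allFrom_spec _ _ _ orbitOK_78848 k h hk

theorem orbit_ok_upto80896 : ∀ k < 80896, orbitRowOK subTable lab orbPar root 122760 k = true := fun k hk =>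
  (Nat.lt_or_ge k 79872).elim (orbit_ok_upto79872 k) fun h =>
    allFrom_spec _ _ _ orbitOK_79872 k h hk

theorem orbit_ok_upto81920 : ∀ k < 81920, orbitRowOK subTable lab orbPar root 122760 k = true := fun k hk =>
  (Nat.lt_or_ge k 80896).elim (orbit_ok_upto80896 k) fun h =>
    allFrom_spec _ _ _ orbitOK_80896 k h hk

theorem orbit_ok_upto82944 : ∀ k < 82944, orbitRowOK subTable lab orbPar root 122760 k = true := fun k hk =>
  (Nat.lt_or_ge k 81920).elim (orbit_ok_upto81920 k) fun h =>
    allFrom_spec _ _ _ orbitOK_81920 k h hk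

theorem orbit_ok_upto83968 : ∀ k < 83968, orbitRowOK subTable lab orbPar root 122760 k = true := fun k hk =>
  (Nat.lt_or_ge k 82944).elim (orbit_ok_upto82944 k) fun h =>
    allFrom_spec _ _ _ orbitOK_82944 k h hk

theorem orbit_ok_upto84992 : ∀ k < 84992, orbitRowOK subTable lab orbPar root 122760 k = true := fun k hk =>
  (Nat.lt_or_ge k 83968).elim (orbit_ok_upto83968 k) fun h =>
    allFrom_spec _ _ _ orbitOK_83968 k h hk

theorem orbit_ok_upto86016 : ∀ k < 86016, orbitRowOK subTable lab orbPar root 122760 k = true := fun k hk =>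
  (Nat.lt_or_ge k 84992).elim (orbit_ok_upto84992 k) fun h =>
    allFrom_spec _ _ _ orbitOK_84992 k h hk

theorem orbit_ok_upto87040 : ∀ k < 87040, orbitRowOK subTable lab orbPar root 122760 k = true := fun k hk =>
  (Nat.lt_or_ge k 86016).elim (orbit_ok_upto86016 k) fun h =>
    allFrom_spec _ _ _ orbitOK_86016 k h hk

theorem orbit_ok_upto88064 : ∀ k < 88064, orbitRowOK subTable lab orbPar root 122760 k = true := fun k hk =>
  (Nat.lt_or_ge k 87040).elim (orbit_ok_upto87040 k) fun h =>
    allFrom_spec _ _ _ orbitOK_87040 k h hk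

theorem orbit_ok_upto89088 : ∀ k < 89088, orbitRowOK subTable lab orbPar root 122760 k = true := fun k hk =>
  (Nat.lt_or_ge k 88064).elim (orbit_ok_upto88064 k) fun h =>
    allFrom_spec _ _ _ orbitOK_88064 k h hk

theorem orbit_ok_upto90112 : ∀ k < 90112, orbitRowOK subTable lab orbPar root 122760 k = true := fun k hk =>
  (Nat.lt_or_ge k 89088).elim (orbit_ok_upto89088 k) fun h =>
    allFrom_spec _ _ _ orbitOK_89088 k h hk

theorem orbit_ok_upto91136 : ∀ k < 91136, orbitRowOK subTable lab orbPar root 122760 k = true := fun k hk =>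
  (Nat.lt_or_ge k 90112).elim (orbit_ok_upto90112 k) fun h =>
    allFrom_spec _ _ _ orbitOK_90112 k h hk

theorem orbit_ok_upto92160 : ∀ k < 92160, orbitRowOK subTable lab orbPar root 122760 k = true := fun k hk =>
  (Nat.lt_or_ge k 91136).elim (orbit_ok_upto91136 k) fun h =>
    allFrom_spec _ _ _ orbitOK_91136 k h hk

theorem orbit_ok_upto93184 : ∀ k < 93184, orbitRowOK subTable lab orbPar root 122760 k = true := fun k hk =>
  (Nat.lt_or_ge k 92160).elim (orbit_ok_upto92160 k) fun h =>
    allFrom_spec _ _ _ orbitOK_92160 k h hk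

theorem orbit_ok_upto94208 : ∀ k < 94208, orbitRowOK subTable lab orbPar root 122760 k = true := fun k hk =>
  (Nat.lt_or_ge k 93184).elim (orbit_ok_upto93184 k) fun h =>
    allFrom_spec _ _ _ orbitOK_93184 k h hk

theorem orbit_ok_upto95232 : ∀ k < 95232, orbitRowOK subTable lab orbPar root 122760 k = true := fun k hk =>
  (Nat.lt_or_ge k 94208).elim (orbit_ok_upto94208 k) fun h =>
    allFrom_spec _ _ _ orbitOK_94208 k h hk

theorem orbit_ok_upto96256 : ∀ k < 96256, orbitRowOK subTable lab orbPar root 122760 k = true := fun k hk =>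
  (Nat.lt_or_ge k 95232).elim (orbit_ok_upto95232 k) fun h =>
    allFrom_spec _ _ _ orbitOK_95232 k h hk

theorem orbit_ok_upto97280 : ∀ k < 97280, orbitRowOK subTable lab orbPar root 122760 k = true := fun k hk =>
  (Nat.lt_or_ge k 96256).elim (orbit_ok_upto96256 k) fun h =>
    allFrom_spec _ _ _ orbitOK_96256 k h hk

theorem orbit_ok_upto98304 : ∀ k < 98304, orbitRowOK subTable lab orbPar root 122760 k = true := fun k hk =>
  (Nat.lt_or_ge k 97280).elim (orbit_ok_upto97280 k) fun h =>
    allFrom_spec _ _ _ orbitOK_97280 k h hk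

theorem orbit_ok_upto99328 : ∀ k < 99328, orbitRowOK subTable lab orbPar root 122760 k = true := fun k hk =>
  (Nat.lt_or_ge k 98304).elim (orbit_ok_upto98304 k) fun h =>
    allFrom_spec _ _ _ orbitOK_98304 k h hk

theorem orbit_ok_upto100352 : ∀ k < 100352, orbitRowOK subTable lab orbPar root 122760 k = true := fun k hk =>
  (Nat.lt_or_ge k 99328).elim (orbit_ok_upto99328 k) fun h =>
    allFrom_spec _ _ _ orbitOK_99328 k h hk

theorem orbit_ok_upto101376 : ∀ k < 101376, orbitRowOK subTable lab orbPar root 122760 k = true := fun k hk =>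
  (Nat.lt_or_ge k 100352).elim (orbit_ok_upto100352 k) fun h =>
    allFrom_spec _ _ _ orbitOK_100352 k h hk

theorem orbit_ok_upto102400 : ∀ k < 102400, orbitRowOK subTable lab orbPar root 122760 k = true := fun k hk =>
  (Nat.lt_or_ge k 101376).elim (orbit_ok_upto101376 k) fun h =>
    allFrom_spec _ _ _ orbitOK_101376 k h hk

theorem orbit_ok_upto103424 : ∀ k < 103424, orbitRowOK subTable lab orbPar root 122760 k = true := fun k hk =>
  (Nat.lt_or_ge k 102400).elim (orbit_ok_upto102400 k) fun h =>
    allFrom_spec _ _ _ orbitOK_102400 k h hk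

theorem orbit_ok_upto104448 : ∀ k < 104448, orbitRowOK subTable lab orbPar root 122760 k = true := fun k hk =>
  (Nat.lt_or_ge k 103424).elim (orbit_ok_upto103424 k) fun h =>
    allFrom_spec _ _ _ orbitOK_103424 k h hk

theorem orbit_ok_upto105472 : ∀ k < 105472, orbitRowOK subTable lab orbPar root 122760 k = true := fun k hk =>
  (Nat.lt_or_ge k 104448).elim (orbit_ok_upto104448 k) fun h =>
    allFrom_spec _ _ _ orbitOK_104448 k h hk

theorem orbit_ok_upto106496 : ∀ k < 106496, orbitRowOK subTable lab orbPar root 122760 k = true := fun k hk =>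
  (Nat.lt_or_ge k 105472).elim (orbit_ok_upto105472 k) fun h =>
    allFrom_spec _ _ _ orbitOK_105472 k h hk

theorem orbit_ok_upto107520 : ∀ k < 107520, orbitRowOK subTable lab orbPar root 122760 k = true := fun k hk =>
  (Nat.lt_or_ge k 106496).elim (orbit_ok_upto106496 k) fun h =>
    allFrom_spec _ _ _ orbitOK_106496 k h hk

theorem orbit_ok_upto108544 : ∀ k < 108544, orbitRowOK subTable lab orbPar root 122760 k = true := fun k hk =>
  (Nat.lt_or_ge k 107520).elim (orbit_ok_upto107520 k) fun h =>
    allFrom_spec _ _ _ orbitOK_107520 k h hk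

theorem orbit_ok_upto109568 : ∀ k < 109568, orbitRowOK subTable lab orbPar root 122760 k = true := fun k hk =>
  (Nat.lt_or_ge k 108544).elim (orbit_ok_upto108544 k) fun h =>
    allFrom_spec _ _ _ orbitOK_108544 k h hk

theorem orbit_ok_upto110592 : ∀ k < 110592, orbitRowOK subTable lab orbPar root 122760 k = true := fun k hk =>
  (Nat.lt_or_ge k 109568).elim (orbit_ok_upto109568 k) fun h =>
    allFrom_spec _ _ _ orbitOK_109568 k h hk

theorem orbit_ok_upto111616 : ∀ k < 111616, orbitRowOK subTable lab orbPar root 122760 k = true := fun k hk =>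
  (Nat.lt_or_ge k 110592).elim (orbit_ok_upto110592 k) fun h =>
    allFrom_spec _ _ _ orbitOK_110592 k h hk

theorem orbit_ok_upto112640 : ∀ k < 112640, orbitRowOK subTable lab orbPar root 122760 k = true := fun k hk =>
  (Nat.lt_or_ge k 111616).elim (orbit_ok_upto111616 k) fun h =>
    allFrom_spec _ _ _ orbitOK_111616 k h hk

theorem orbit_ok_upto113664 : ∀ k < 113664, orbitRowOK subTable lab orbPar root 122760 k = true := fun k hk =>
  (Nat.lt_or_ge k 112640).elim (orbit_ok_upto112640 k) fun h =>
    allFrom_spec _ _ _ orbitOK_112640 k h hk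

theorem orbit_ok_upto114688 : ∀ k < 114688, orbitRowOK subTable lab orbPar root 122760 k = true := fun k hk =>
  (Nat.lt_or_ge k 113664).elim (orbit_ok_upto113664 k) fun h =>
    allFrom_spec _ _ _ orbitOK_113664 k h hk

theorem orbit_ok_upto115712 : ∀ k < 115712, orbitRowOK subTable lab orbPar root 122760 k = true := fun k hk =>
  (Nat.lt_or_ge k 114688).elim (orbit_ok_upto114688 k) fun h =>
    allFrom_spec _ _ _ orbitOK_114688 k h hk

theorem orbit_ok_upto116736 : ∀ k < 116736, orbitRowOK subTable lab orbPar root 122760 k = true := fun k hk =>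
  (Nat.lt_or_ge k 115712).elim (orbit_ok_upto115712 k) fun h =>
    allFrom_spec _ _ _ orbitOK_115712 k h hk

theorem orbit_ok_upto117760 : ∀ k < 117760, orbitRowOK subTable lab orbPar root 122760 k = true := fun k hk =>
  (Nat.lt_or_ge k 116736).elim (orbit_ok_upto116736 k) fun h =>
    allFrom_spec _ _ _ orbitOK_116736 k h hk

theorem orbit_ok_upto118784 : ∀ k < 118784, orbitRowOK subTable lab orbPar root 122760 k = true := fun k hk =>
  (Nat.lt_or_ge k 117760).elim (orbit_ok_upto117760 k) fun h =>
    allFrom_spec _ _ _ orbitOK_117760 k h hk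

theorem orbit_ok_upto119808 : ∀ k < 119808, orbitRowOK subTable lab orbPar root 122760 k = true := fun k hk =>
  (Nat.lt_or_ge k 118784).elim (orbit_ok_upto118784 k) fun h =>
    allFrom_spec _ _ _ orbitOK_118784 k h hk

theorem orbit_ok_upto120832 : ∀ k < 120832, orbitRowOK subTable lab orbPar root 122760 k = true := fun k hk =>
  (Nat.lt_or_ge k 119808).elim (orbit_ok_upto119808 k) fun h =>
    allFrom_spec _ _ _ orbitOK_119808 k h hk

theorem orbit_ok_upto121856 : ∀ k < 121856, orbitRowOK subTable lab orbPar root 122760 k = true := fun k hk =>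
  (Nat.lt_or_ge k 120832).elim (orbit_ok_upto120832 k) fun h =>
    allFrom_spec _ _ _ orbitOK_120832 k h hk

theorem orbit_ok_upto122760 : ∀ k < 122760, orbitRowOK subTable lab orbPar root 122760 k = true := fun k hk =>
  (Nat.lt_or_ge k 121856).elim (orbit_ok_upto121856 k) fun h =>
    allFrom_spec _ _ _ orbitOK_121856 k h hk

theorem orbit_ok : ∀ k < 122760, orbitRowOK subTable lab orbPar root 122760 k = true := orbit_ok_upto122760

theorem maximal : (∀ M : Subgroup Cfsg.Spor.ON, H ≤ M → M = H ∨ M = ⊤) ∧ ∀ N : Subgroup Cfsg.Spor.ON, N.Normal → N ≤ H → N = ⊥ :=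
  maximal_of_orbits (n := 122760) π (by omega) H covers (sub_fix (by omega)) (transitive (by omega)) injective subTable sub_spec.1 sub_spec.2 lab orbPar root orbit_ok
    [1, 58653, 52136, 5586, 6384] (by decide +kernel) (by decide +kernel) (by decide +kernel) (by decide +kernel)

theorem exists_orbit (r : Fin 122760) (c N : ℕ) (h1 : Nat.beq (lab.get 20 r) c = true) (h2 : Nat.beq (root.get 20 c) r = true)
    (h3 : Nat.beq (countLab lab c 122760) N = true) : ∃ q : Cfsg.Spor.ON ⧸ H, (MulAction.orbit H q).ncard = N := by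
  have hn : 0 < 122760 := by omega
  obtain ⟨q, hq⟩ := (cosetPt_bijective hn π H covers (sub_fix hn) (transitive hn)).2 r
  refine ⟨q, ?_⟩
  rw [orbit_ncard_eq hn π H covers (sub_fix hn) (transitive hn), hq]
  exact orbit_class_ncard π H subTable sub_spec.1 sub_spec.2 lab orbPar root orbit_ok r c h1 h2 N h3

end CfsgLib.CosetEnum.ON
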