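import Cfsg.Agent.Lib.CosetEnum.ON.SimpleD

set_option autoImplicit false

set_option linter.all false

namespace CfsgLib.CosetEnum.ON

namespace Simple

open CfsgLib.CosetEnum

noncomputable def items0 : List ℕ := [
nat_lit 0x0,
nat_lit 0x0,
nat_lit 0x0,
nat_lit 0x0,
nat_lit 0x0,
nat_lit 0x0,
nat_lit 0x0,
nat_lit 0x0,
nat_lit 0x0,
nat_lit 0x0,
nat_lit 0x0,
nat_lit 0x0,
nat_lit 0x0,
nat_lit 0x0,
nat_lit 0x0,
nat_lit 0x0,
nat_lit 0x0,
nat_lit 0x0,
nat_lit 0x0,
nat_lit 0x0,
nat_lit 0x0,
nat_lit 0x0,
nat_lit 0x0,
nat_lit 0x0,
nat_lit 0x0,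
nat_lit 0x0,
nat_lit 0x0,
nat_lit 0x800000c00001000050,
nat_lit 0x10000070000014002ba,
nat_lit 0xe00000a000018002ba,
nat_lit 0x600006e00001c002ba,
nat_lit 0x7800001c000024002be,
nat_lit 0x2400008000002c00050,
nat_lit 0x70000028000030000ba,
nat_lit 0x26000014000034003e8,
nat_lit 0x8800001c00003c003e8,
nat_lit 0x9000002e00008a00148,
nat_lit 0x3400009400003a000082001da,
nat_lit 0x9600400,
nat_lit 0x2c00009c00002000000,
nat_lit 0x200000a000000,
nat_lit 0xa400003400004000030,
nat_lit 0x600003800004400020,
nat_lit 0x3600002800004c003ea,
nat_lit 0x8a00004000005000022,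
nat_lit 0x180000a6000050003ee,
nat_lit 0x80000b60000b40000260000080000b60000a,
nat_lit 0xba00400,
nat_lit 0x60000be0000b400000,
nat_lit 0x280000c400078,
nat_lit 0x8c0000c40000aa000f0,
nat_lit 0xa0000c2000030002a8,
nat_lit 0x160000c200004c003f0,
nat_lit 0x440000cc00000,
nat_lit 0xaa0000cc000f0,
nat_lit 0x860000d000078,
nat_lit 0x900000d0000f0,
nat_lit 0xae0000d4001b8,
nat_lit 0xd6000094000054002ba,
nat_lit 0xd8000048000058002ba,
nat_lit 0xec0000e6000060003ee,
nat_lit 0xf0000032000064003ee,
nat_lit 0xea0000f200005e0000160000da0000ee0000f6000062000012000038003aa,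
nat_lit 0xee0000f60000620000120000380000ea0000f200005e0000160000da003aa,
nat_lit 0xd60001000000d80000fc0000d60001000000a,
nat_lit 0x10400400,
nat_lit 0xec0001080000ee003fe,
nat_lit 0x380001080000dc000f0,
nat_lit 0xf400010a0000f600078,
nat_lit 0xee00010c003fe,
nat_lit 0x200010e00007a003fe,
nat_lit 0x800011000000,
nat_lit 0xc600011000078,
nat_lit 0xdc000110000f0,
nat_lit 0xa00011000006e002a8,
nat_lit 0x64000114000f0,
nat_lit 0x3a00011c001b8,
nat_lit 0x1000012c00000,
nat_lit 0xe000012c00078,
nat_lit 0x6e00012c002a8,
nat_lit 0x12800010000012600012400012800010000080,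
nat_lit 0x14200400,
nat_lit 0x2000146000116003fe,
nat_lit 0x128000148000f0,
nat_lit 0x3400014800005c001b8,
nat_lit 0x140000146000094002a8,
nat_lit 0xf400014c00078,
nat_lit 0x5c000154001b8,
nat_lit 0xe4000158000f0,
nat_lit 0x134000158001b8,
nat_lit 0x16600013c00016800015c00098,
nat_lit 0x16a00400,
nat_lit 0x12e000170000f0,
nat_lit 0x13e00013800016400016800017400016000015000015e000172000166002c4,
nat_lit 0x17600400,
nat_lit 0x200017a000072003fe,
nat_lit 0x13e00017c002a8,
nat_lit 0x14000180003f0,
nat_lit 0x15e000180001b8,
nat_lit 0x66000124000068000aa,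
nat_lit 0x660001500000680013a,
nat_lit 0x19400019000006c003ea,
nat_lit 0x18800006800019600006a00019600006a00006600018a00018800018a003d6,
nat_lit 0x6a00006600018a00018800018a00018800006800019600006a000196003d6,
nat_lit 0x18a00019c00018c0000680001960001a0001c2,
nat_lit 0x1a200400,
nat_lit 0x20001a600006a003fe,
nat_lit 0x1a60001a00001a80000680001ac00230,
nat_lit 0x1ae0001aa00400,
nat_lit 0x680001b400230,
nat_lit 0x18a0001b0001b8,
nat_lit 0x40001b0003fe]

theorem facts_ok0 : checkFacts facts 18364758542614016535 words 128 subs 28 items0 0 = true := by decide +kernel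

theorem rows_0 : checkRows facts 18364758542614016535 lives entryFact table 1 8 112 1 0 = true := by decide +kernel

theorem powOK_0 : allFrom (fun k => fixesAll CfsgLib.CosetEnum.ON.table k [(List.replicate 5 lw).flatten]) 512 0 = true := by decide +kernel

theorem powOK_512 : allFrom (fun k => fixesAll CfsgLib.CosetEnum.ON.table k [(List.replicate 5 lw).flatten]) 512 512 = true := by decide +kernel

theorem powOK_1024 : allFrom (fun k => fixesAll CfsgLib.CosetEnum.ON.table k [(List.replicate 5 lw).flatten]) 512 1024 = true := by decide +kernel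

theorem powOK_1536 : allFrom (fun k => fixesAll CfsgLib.CosetEnum.ON.table k [(List.replicate 5 lw).flatten]) 512 1536 = true := by decide +kernel

theorem powOK_2048 : allFrom (fun k => fixesAll CfsgLib.CosetEnum.ON.table k [(List.replicate 5 lw).flatten]) 512 2048 = true := by decide +kernel

theorem powOK_2560 : allFrom (fun k => fixesAll CfsgLib.CosetEnum.ON.table k [(List.replicate 5 lw).flatten]) 512 2560 = true := by decide +kernel

theorem powOK_3072 : allFrom (fun k => fixesAll CfsgLib.CosetEnum.ON.table k [(List.replicate 5 lw).flatten]) 512 3072 = true := by decide +kernel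

theorem powOK_3584 : allFrom (fun k => fixesAll CfsgLib.CosetEnum.ON.table k [(List.replicate 5 lw).flatten]) 512 3584 = true := by decide +kernel

theorem powOK_4096 : allFrom (fun k => fixesAll CfsgLib.CosetEnum.ON.table k [(List.replicate 5 lw).flatten]) 512 4096 = true := by decide +kernel

theorem powOK_4608 : allFrom (fun k => fixesAll CfsgLib.CosetEnum.ON.table k [(List.replicate 5 lw).flatten]) 512 4608 = true := by decide +kernel

theorem powOK_5120 : allFrom (fun k => fixesAll CfsgLib.CosetEnum.ON.table k [(List.replicate 5 lw).flatten]) 512 5120 = true := by decide +kernel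

theorem powOK_5632 : allFrom (fun k => fixesAll CfsgLib.CosetEnum.ON.table k [(List.replicate 5 lw).flatten]) 512 5632 = true := by decide +kernel

theorem powOK_6144 : allFrom (fun k => fixesAll CfsgLib.CosetEnum.ON.table k [(List.replicate 5 lw).flatten]) 512 6144 = true := by decide +kernel

theorem powOK_6656 : allFrom (fun k => fixesAll CfsgLib.CosetEnum.ON.table k [(List.replicate 5 lw).flatten]) 512 6656 = true := by decide +kernel

theorem powOK_7168 : allFrom (fun k => fixesAll CfsgLib.CosetEnum.ON.table k [(List.replicate 5 lw).flatten]) 512 7168 = true := by decide +kernel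

theorem powOK_7680 : allFrom (fun k => fixesAll CfsgLib.CosetEnum.ON.table k [(List.replicate 5 lw).flatten]) 512 7680 = true := by decide +kernel

theorem powOK_8192 : allFrom (fun k => fixesAll CfsgLib.CosetEnum.ON.table k [(List.replicate 5 lw).flatten]) 512 8192 = true := by decide +kernel

theorem powOK_8704 : allFrom (fun k => fixesAll CfsgLib.CosetEnum.ON.table k [(List.replicate 5 lw).flatten]) 512 8704 = true := by decide +kernel

theorem powOK_9216 : allFrom (fun k => fixesAll CfsgLib.CosetEnum.ON.table k [(List.replicate 5 lw).flatten]) 512 9216 = true := by decide +kernel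

theorem powOK_9728 : allFrom (fun k => fixesAll CfsgLib.CosetEnum.ON.table k [(List.replicate 5 lw).flatten]) 512 9728 = true := by decide +kernel

theorem powOK_10240 : allFrom (fun k => fixesAll CfsgLib.CosetEnum.ON.table k [(List.replicate 5 lw).flatten]) 512 10240 = true := by decide +kernel

theorem powOK_10752 : allFrom (fun k => fixesAll CfsgLib.CosetEnum.ON.table k [(List.replicate 5 lw).flatten]) 512 10752 = true := by decide +kernel

theorem powOK_11264 : allFrom (fun k => fixesAll CfsgLib.CosetEnum.ON.table k [(List.replicate 5 lw).flatten]) 512 11264 = true := by decide +kernel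

theorem powOK_11776 : allFrom (fun k => fixesAll CfsgLib.CosetEnum.ON.table k [(List.replicate 5 lw).flatten]) 512 11776 = true := by decide +kernel

theorem powOK_12288 : allFrom (fun k => fixesAll CfsgLib.CosetEnum.ON.table k [(List.replicate 5 lw).flatten]) 512 12288 = true := by decide +kernel

theorem powOK_12800 : allFrom (fun k => fixesAll CfsgLib.CosetEnum.ON.table k [(List.replicate 5 lw).flatten]) 512 12800 = true := by decide +kernel

theorem powOK_13312 : allFrom (fun k => fixesAll CfsgLib.CosetEnum.ON.table k [(List.replicate 5 lw).flatten]) 512 13312 = true := by decide +kernel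

theorem powOK_13824 : allFrom (fun k => fixesAll CfsgLib.CosetEnum.ON.table k [(List.replicate 5 lw).flatten]) 512 13824 = true := by decide +kernel

theorem powOK_14336 : allFrom (fun k => fixesAll CfsgLib.CosetEnum.ON.table k [(List.replicate 5 lw).flatten]) 512 14336 = true := by decide +kernel

theorem powOK_14848 : allFrom (fun k => fixesAll CfsgLib.CosetEnum.ON.table k [(List.replicate 5 lw).flatten]) 512 14848 = true := by decide +kernel

theorem powOK_15360 : allFrom (fun k => fixesAll CfsgLib.CosetEnum.ON.table k [(List.replicate 5 lw).flatten]) 512 15360 = true := by decide +kernel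

theorem powOK_15872 : allFrom (fun k => fixesAll CfsgLib.CosetEnum.ON.table k [(List.replicate 5 lw).flatten]) 512 15872 = true := by decide +kernel

theorem powOK_16384 : allFrom (fun k => fixesAll CfsgLib.CosetEnum.ON.table k [(List.replicate 5 lw).flatten]) 512 16384 = true := by decide +kernel

theorem powOK_16896 : allFrom (fun k => fixesAll CfsgLib.CosetEnum.ON.table k [(List.replicate 5 lw).flatten]) 512 16896 = true := by decide +kernel

theorem powOK_17408 : allFrom (fun k => fixesAll CfsgLib.CosetEnum.ON.table k [(List.replicate 5 lw).flatten]) 512 17408 = true := by decide +kernel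

theorem powOK_17920 : allFrom (fun k => fixesAll CfsgLib.CosetEnum.ON.table k [(List.replicate 5 lw).flatten]) 512 17920 = true := by decide +kernel

theorem powOK_18432 : allFrom (fun k => fixesAll CfsgLib.CosetEnum.ON.table k [(List.replicate 5 lw).flatten]) 512 18432 = true := by decide +kernel

theorem powOK_18944 : allFrom (fun k => fixesAll CfsgLib.CosetEnum.ON.table k [(List.replicate 5 lw).flatten]) 512 18944 = true := by decide +kernel

theorem powOK_19456 : allFrom (fun k => fixesAll CfsgLib.CosetEnum.ON.table k [(List.replicate 5 lw).flatten]) 512 19456 = true := by decide +kernel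

theorem powOK_19968 : allFrom (fun k => fixesAll CfsgLib.CosetEnum.ON.table k [(List.replicate 5 lw).flatten]) 512 19968 = true := by decide +kernel

theorem powOK_20480 : allFrom (fun k => fixesAll CfsgLib.CosetEnum.ON.table k [(List.replicate 5 lw).flatten]) 512 20480 = true := by decide +kernel

theorem powOK_20992 : allFrom (fun k => fixesAll CfsgLib.CosetEnum.ON.table k [(List.replicate 5 lw).flatten]) 512 20992 = true := by decide +kernel

theorem powOK_21504 : allFrom (fun k => fixesAll CfsgLib.CosetEnum.ON.table k [(List.replicate 5 lw).flatten]) 512 21504 = true := by decide +kernel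

theorem powOK_22016 : allFrom (fun k => fixesAll CfsgLib.CosetEnum.ON.table k [(List.replicate 5 lw).flatten]) 512 22016 = true := by decide +kernel

theorem powOK_22528 : allFrom (fun k => fixesAll CfsgLib.CosetEnum.ON.table k [(List.replicate 5 lw).flatten]) 512 22528 = true := by decide +kernel

theorem powOK_23040 : allFrom (fun k => fixesAll CfsgLib.CosetEnum.ON.table k [(List.replicate 5 lw).flatten]) 512 23040 = true := by decide +kernel

theorem powOK_23552 : allFrom (fun k => fixesAll CfsgLib.CosetEnum.ON.table k [(List.replicate 5 lw).flatten]) 512 23552 = true := by decide +kernel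

end Simple

end CfsgLib.CosetEnum.ON
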