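import Cfsg.Agent.Lib.CosetEnum.ON.SimpleD

set_option autoImplicit false

set_option linter.all false

namespace CfsgLib.CosetEnum.ON

namespace Simple

open CfsgLib.CosetEnum

theorem powOK_24064 : allFrom (fun k => fixesAll CfsgLib.CosetEnum.ON.table k [(List.replicate 5 lw).flatten]) 512 24064 = true := by decide +kernel

theorem powOK_24576 : allFrom (fun k => fixesAll CfsgLib.CosetEnum.ON.table k [(List.replicate 5 lw).flatten]) 512 24576 = true := by decide +kernel

theorem powOK_25088 : allFrom (fun k => fixesAll CfsgLib.CosetEnum.ON.table k [(List.replicate 5 lw).flatten]) 512 25088 = true := by decide +kernel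

theorem powOK_25600 : allFrom (fun k => fixesAll CfsgLib.CosetEnum.ON.table k [(List.replicate 5 lw).flatten]) 512 25600 = true := by decide +kernel

theorem powOK_26112 : allFrom (fun k => fixesAll CfsgLib.CosetEnum.ON.table k [(List.replicate 5 lw).flatten]) 512 26112 = true := by decide +kernel

theorem powOK_26624 : allFrom (fun k => fixesAll CfsgLib.CosetEnum.ON.table k [(List.replicate 5 lw).flatten]) 512 26624 = true := by decide +kernel

theorem powOK_27136 : allFrom (fun k => fixesAll CfsgLib.CosetEnum.ON.table k [(List.replicate 5 lw).flatten]) 512 27136 = true := by decide +kernel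

theorem powOK_27648 : allFrom (fun k => fixesAll CfsgLib.CosetEnum.ON.table k [(List.replicate 5 lw).flatten]) 512 27648 = true := by decide +kernel

theorem powOK_28160 : allFrom (fun k => fixesAll CfsgLib.CosetEnum.ON.table k [(List.replicate 5 lw).flatten]) 512 28160 = true := by decide +kernel

theorem powOK_28672 : allFrom (fun k => fixesAll CfsgLib.CosetEnum.ON.table k [(List.replicate 5 lw).flatten]) 512 28672 = true := by decide +kernel

theorem powOK_29184 : allFrom (fun k => fixesAll CfsgLib.CosetEnum.ON.table k [(List.replicate 5 lw).flatten]) 512 29184 = true := by decide +kernel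

theorem powOK_29696 : allFrom (fun k => fixesAll CfsgLib.CosetEnum.ON.table k [(List.replicate 5 lw).flatten]) 512 29696 = true := by decide +kernel

theorem powOK_30208 : allFrom (fun k => fixesAll CfsgLib.CosetEnum.ON.table k [(List.replicate 5 lw).flatten]) 512 30208 = true := by decide +kernel

theorem powOK_30720 : allFrom (fun k => fixesAll CfsgLib.CosetEnum.ON.table k [(List.replicate 5 lw).flatten]) 512 30720 = true := by decide +kernel

theorem powOK_31232 : allFrom (fun k => fixesAll CfsgLib.CosetEnum.ON.table k [(List.replicate 5 lw).flatten]) 512 31232 = true := by decide +kernel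

theorem powOK_31744 : allFrom (fun k => fixesAll CfsgLib.CosetEnum.ON.table k [(List.replicate 5 lw).flatten]) 512 31744 = true := by decide +kernel

theorem powOK_32256 : allFrom (fun k => fixesAll CfsgLib.CosetEnum.ON.table k [(List.replicate 5 lw).flatten]) 512 32256 = true := by decide +kernel

theorem powOK_32768 : allFrom (fun k => fixesAll CfsgLib.CosetEnum.ON.table k [(List.replicate 5 lw).flatten]) 512 32768 = true := by decide +kernel

theorem powOK_33280 : allFrom (fun k => fixesAll CfsgLib.CosetEnum.ON.table k [(List.replicate 5 lw).flatten]) 512 33280 = true := by decide +kernel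

theorem powOK_33792 : allFrom (fun k => fixesAll CfsgLib.CosetEnum.ON.table k [(List.replicate 5 lw).flatten]) 512 33792 = true := by decide +kernel

theorem powOK_34304 : allFrom (fun k => fixesAll CfsgLib.CosetEnum.ON.table k [(List.replicate 5 lw).flatten]) 512 34304 = true := by decide +kernel

theorem powOK_34816 : allFrom (fun k => fixesAll CfsgLib.CosetEnum.ON.table k [(List.replicate 5 lw).flatten]) 512 34816 = true := by decide +kernel

theorem powOK_35328 : allFrom (fun k => fixesAll CfsgLib.CosetEnum.ON.table k [(List.replicate 5 lw).flatten]) 512 35328 = true := by decide +kernel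

theorem powOK_35840 : allFrom (fun k => fixesAll CfsgLib.CosetEnum.ON.table k [(List.replicate 5 lw).flatten]) 512 35840 = true := by decide +kernel

theorem powOK_36352 : allFrom (fun k => fixesAll CfsgLib.CosetEnum.ON.table k [(List.replicate 5 lw).flatten]) 512 36352 = true := by decide +kernel

theorem powOK_36864 : allFrom (fun k => fixesAll CfsgLib.CosetEnum.ON.table k [(List.replicate 5 lw).flatten]) 512 36864 = true := by decide +kernel

theorem powOK_37376 : allFrom (fun k => fixesAll CfsgLib.CosetEnum.ON.table k [(List.replicate 5 lw).flatten]) 512 37376 = true := by decide +kernel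

theorem powOK_37888 : allFrom (fun k => fixesAll CfsgLib.CosetEnum.ON.table k [(List.replicate 5 lw).flatten]) 512 37888 = true := by decide +kernel

theorem powOK_38400 : allFrom (fun k => fixesAll CfsgLib.CosetEnum.ON.table k [(List.replicate 5 lw).flatten]) 512 38400 = true := by decide +kernel

theorem powOK_38912 : allFrom (fun k => fixesAll CfsgLib.CosetEnum.ON.table k [(List.replicate 5 lw).flatten]) 512 38912 = true := by decide +kernel

theorem powOK_39424 : allFrom (fun k => fixesAll CfsgLib.CosetEnum.ON.table k [(List.replicate 5 lw).flatten]) 512 39424 = true := by decide +kernel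

theorem powOK_39936 : allFrom (fun k => fixesAll CfsgLib.CosetEnum.ON.table k [(List.replicate 5 lw).flatten]) 512 39936 = true := by decide +kernel

theorem powOK_40448 : allFrom (fun k => fixesAll CfsgLib.CosetEnum.ON.table k [(List.replicate 5 lw).flatten]) 512 40448 = true := by decide +kernel

theorem powOK_40960 : allFrom (fun k => fixesAll CfsgLib.CosetEnum.ON.table k [(List.replicate 5 lw).flatten]) 512 40960 = true := by decide +kernel

theorem powOK_41472 : allFrom (fun k => fixesAll CfsgLib.CosetEnum.ON.table k [(List.replicate 5 lw).flatten]) 512 41472 = true := by decide +kernel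

theorem powOK_41984 : allFrom (fun k => fixesAll CfsgLib.CosetEnum.ON.table k [(List.replicate 5 lw).flatten]) 512 41984 = true := by decide +kernel

theorem powOK_42496 : allFrom (fun k => fixesAll CfsgLib.CosetEnum.ON.table k [(List.replicate 5 lw).flatten]) 512 42496 = true := by decide +kernel

theorem powOK_43008 : allFrom (fun k => fixesAll CfsgLib.CosetEnum.ON.table k [(List.replicate 5 lw).flatten]) 512 43008 = true := by decide +kernel

theorem powOK_43520 : allFrom (fun k => fixesAll CfsgLib.CosetEnum.ON.table k [(List.replicate 5 lw).flatten]) 512 43520 = true := by decide +kernel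

theorem powOK_44032 : allFrom (fun k => fixesAll CfsgLib.CosetEnum.ON.table k [(List.replicate 5 lw).flatten]) 512 44032 = true := by decide +kernel

theorem powOK_44544 : allFrom (fun k => fixesAll CfsgLib.CosetEnum.ON.table k [(List.replicate 5 lw).flatten]) 512 44544 = true := by decide +kernel

theorem powOK_45056 : allFrom (fun k => fixesAll CfsgLib.CosetEnum.ON.table k [(List.replicate 5 lw).flatten]) 512 45056 = true := by decide +kernel

theorem powOK_45568 : allFrom (fun k => fixesAll CfsgLib.CosetEnum.ON.table k [(List.replicate 5 lw).flatten]) 512 45568 = true := by decide +kernel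

theorem powOK_46080 : allFrom (fun k => fixesAll CfsgLib.CosetEnum.ON.table k [(List.replicate 5 lw).flatten]) 512 46080 = true := by decide +kernel

theorem powOK_46592 : allFrom (fun k => fixesAll CfsgLib.CosetEnum.ON.table k [(List.replicate 5 lw).flatten]) 512 46592 = true := by decide +kernel

theorem powOK_47104 : allFrom (fun k => fixesAll CfsgLib.CosetEnum.ON.table k [(List.replicate 5 lw).flatten]) 512 47104 = true := by decide +kernel

theorem powOK_47616 : allFrom (fun k => fixesAll CfsgLib.CosetEnum.ON.table k [(List.replicate 5 lw).flatten]) 512 47616 = true := by decide +kernel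

theorem powOK_48128 : allFrom (fun k => fixesAll CfsgLib.CosetEnum.ON.table k [(List.replicate 5 lw).flatten]) 512 48128 = true := by decide +kernel

end Simple

end CfsgLib.CosetEnum.ON
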