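import Cfsg.Agent.Lib.CosetEnum.ON.SimpleD

set_option autoImplicit false

set_option linter.all false

namespace CfsgLib.CosetEnum.ON

namespace Simple

open CfsgLib.CosetEnum

theorem powOK_48640 : allFrom (fun k => fixesAll CfsgLib.CosetEnum.ON.table k [(List.replicate 5 lw).flatten]) 512 48640 = true := by decide +kernel

theorem powOK_49152 : allFrom (fun k => fixesAll CfsgLib.CosetEnum.ON.table k [(List.replicate 5 lw).flatten]) 512 49152 = true := by decide +kernel

theorem powOK_49664 : allFrom (fun k => fixesAll CfsgLib.CosetEnum.ON.table k [(List.replicate 5 lw).flatten]) 512 49664 = true := by decide +kernel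

theorem powOK_50176 : allFrom (fun k => fixesAll CfsgLib.CosetEnum.ON.table k [(List.replicate 5 lw).flatten]) 512 50176 = true := by decide +kernel

theorem powOK_50688 : allFrom (fun k => fixesAll CfsgLib.CosetEnum.ON.table k [(List.replicate 5 lw).flatten]) 512 50688 = true := by decide +kernel

theorem powOK_51200 : allFrom (fun k => fixesAll CfsgLib.CosetEnum.ON.table k [(List.replicate 5 lw).flatten]) 512 51200 = true := by decide +kernel

theorem powOK_51712 : allFrom (fun k => fixesAll CfsgLib.CosetEnum.ON.table k [(List.replicate 5 lw).flatten]) 512 51712 = true := by decide +kernel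

theorem powOK_52224 : allFrom (fun k => fixesAll CfsgLib.CosetEnum.ON.table k [(List.replicate 5 lw).flatten]) 512 52224 = true := by decide +kernel

theorem powOK_52736 : allFrom (fun k => fixesAll CfsgLib.CosetEnum.ON.table k [(List.replicate 5 lw).flatten]) 512 52736 = true := by decide +kernel

theorem powOK_53248 : allFrom (fun k => fixesAll CfsgLib.CosetEnum.ON.table k [(List.replicate 5 lw).flatten]) 512 53248 = true := by decide +kernel

theorem powOK_53760 : allFrom (fun k => fixesAll CfsgLib.CosetEnum.ON.table k [(List.replicate 5 lw).flatten]) 512 53760 = true := by decide +kernel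

theorem powOK_54272 : allFrom (fun k => fixesAll CfsgLib.CosetEnum.ON.table k [(List.replicate 5 lw).flatten]) 512 54272 = true := by decide +kernel

theorem powOK_54784 : allFrom (fun k => fixesAll CfsgLib.CosetEnum.ON.table k [(List.replicate 5 lw).flatten]) 512 54784 = true := by decide +kernel

theorem powOK_55296 : allFrom (fun k => fixesAll CfsgLib.CosetEnum.ON.table k [(List.replicate 5 lw).flatten]) 512 55296 = true := by decide +kernel

theorem powOK_55808 : allFrom (fun k => fixesAll CfsgLib.CosetEnum.ON.table k [(List.replicate 5 lw).flatten]) 512 55808 = true := by decide +kernel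

theorem powOK_56320 : allFrom (fun k => fixesAll CfsgLib.CosetEnum.ON.table k [(List.replicate 5 lw).flatten]) 512 56320 = true := by decide +kernel

theorem powOK_56832 : allFrom (fun k => fixesAll CfsgLib.CosetEnum.ON.table k [(List.replicate 5 lw).flatten]) 512 56832 = true := by decide +kernel

theorem powOK_57344 : allFrom (fun k => fixesAll CfsgLib.CosetEnum.ON.table k [(List.replicate 5 lw).flatten]) 512 57344 = true := by decide +kernel

theorem powOK_57856 : allFrom (fun k => fixesAll CfsgLib.CosetEnum.ON.table k [(List.replicate 5 lw).flatten]) 512 57856 = true := by decide +kernel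

theorem powOK_58368 : allFrom (fun k => fixesAll CfsgLib.CosetEnum.ON.table k [(List.replicate 5 lw).flatten]) 512 58368 = true := by decide +kernel

theorem powOK_58880 : allFrom (fun k => fixesAll CfsgLib.CosetEnum.ON.table k [(List.replicate 5 lw).flatten]) 512 58880 = true := by decide +kernel

theorem powOK_59392 : allFrom (fun k => fixesAll CfsgLib.CosetEnum.ON.table k [(List.replicate 5 lw).flatten]) 512 59392 = true := by decide +kernel

theorem powOK_59904 : allFrom (fun k => fixesAll CfsgLib.CosetEnum.ON.table k [(List.replicate 5 lw).flatten]) 512 59904 = true := by decide +kernel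

theorem powOK_60416 : allFrom (fun k => fixesAll CfsgLib.CosetEnum.ON.table k [(List.replicate 5 lw).flatten]) 512 60416 = true := by decide +kernel

theorem powOK_60928 : allFrom (fun k => fixesAll CfsgLib.CosetEnum.ON.table k [(List.replicate 5 lw).flatten]) 512 60928 = true := by decide +kernel

theorem powOK_61440 : allFrom (fun k => fixesAll CfsgLib.CosetEnum.ON.table k [(List.replicate 5 lw).flatten]) 512 61440 = true := by decide +kernel

theorem powOK_61952 : allFrom (fun k => fixesAll CfsgLib.CosetEnum.ON.table k [(List.replicate 5 lw).flatten]) 512 61952 = true := by decide +kernel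

theorem powOK_62464 : allFrom (fun k => fixesAll CfsgLib.CosetEnum.ON.table k [(List.replicate 5 lw).flatten]) 512 62464 = true := by decide +kernel

theorem powOK_62976 : allFrom (fun k => fixesAll CfsgLib.CosetEnum.ON.table k [(List.replicate 5 lw).flatten]) 512 62976 = true := by decide +kernel

theorem powOK_63488 : allFrom (fun k => fixesAll CfsgLib.CosetEnum.ON.table k [(List.replicate 5 lw).flatten]) 512 63488 = true := by decide +kernel

theorem powOK_64000 : allFrom (fun k => fixesAll CfsgLib.CosetEnum.ON.table k [(List.replicate 5 lw).flatten]) 512 64000 = true := by decide +kernel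

theorem powOK_64512 : allFrom (fun k => fixesAll CfsgLib.CosetEnum.ON.table k [(List.replicate 5 lw).flatten]) 512 64512 = true := by decide +kernel

theorem powOK_65024 : allFrom (fun k => fixesAll CfsgLib.CosetEnum.ON.table k [(List.replicate 5 lw).flatten]) 512 65024 = true := by decide +kernel

theorem powOK_65536 : allFrom (fun k => fixesAll CfsgLib.CosetEnum.ON.table k [(List.replicate 5 lw).flatten]) 512 65536 = true := by decide +kernel

theorem powOK_66048 : allFrom (fun k => fixesAll CfsgLib.CosetEnum.ON.table k [(List.replicate 5 lw).flatten]) 512 66048 = true := by decide +kernel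

theorem powOK_66560 : allFrom (fun k => fixesAll CfsgLib.CosetEnum.ON.table k [(List.replicate 5 lw).flatten]) 512 66560 = true := by decide +kernel

theorem powOK_67072 : allFrom (fun k => fixesAll CfsgLib.CosetEnum.ON.table k [(List.replicate 5 lw).flatten]) 512 67072 = true := by decide +kernel

theorem powOK_67584 : allFrom (fun k => fixesAll CfsgLib.CosetEnum.ON.table k [(List.replicate 5 lw).flatten]) 512 67584 = true := by decide +kernel

theorem powOK_68096 : allFrom (fun k => fixesAll CfsgLib.CosetEnum.ON.table k [(List.replicate 5 lw).flatten]) 512 68096 = true := by decide +kernel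

theorem powOK_68608 : allFrom (fun k => fixesAll CfsgLib.CosetEnum.ON.table k [(List.replicate 5 lw).flatten]) 512 68608 = true := by decide +kernel

theorem powOK_69120 : allFrom (fun k => fixesAll CfsgLib.CosetEnum.ON.table k [(List.replicate 5 lw).flatten]) 512 69120 = true := by decide +kernel

theorem powOK_69632 : allFrom (fun k => fixesAll CfsgLib.CosetEnum.ON.table k [(List.replicate 5 lw).flatten]) 512 69632 = true := by decide +kernel

theorem powOK_70144 : allFrom (fun k => fixesAll CfsgLib.CosetEnum.ON.table k [(List.replicate 5 lw).flatten]) 512 70144 = true := by decide +kernel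

theorem powOK_70656 : allFrom (fun k => fixesAll CfsgLib.CosetEnum.ON.table k [(List.replicate 5 lw).flatten]) 512 70656 = true := by decide +kernel

theorem powOK_71168 : allFrom (fun k => fixesAll CfsgLib.CosetEnum.ON.table k [(List.replicate 5 lw).flatten]) 512 71168 = true := by decide +kernel

theorem powOK_71680 : allFrom (fun k => fixesAll CfsgLib.CosetEnum.ON.table k [(List.replicate 5 lw).flatten]) 512 71680 = true := by decide +kernel

theorem powOK_72192 : allFrom (fun k => fixesAll CfsgLib.CosetEnum.ON.table k [(List.replicate 5 lw).flatten]) 512 72192 = true := by decide +kernel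

theorem powOK_72704 : allFrom (fun k => fixesAll CfsgLib.CosetEnum.ON.table k [(List.replicate 5 lw).flatten]) 512 72704 = true := by decide +kernel

theorem powOK_73216 : allFrom (fun k => fixesAll CfsgLib.CosetEnum.ON.table k [(List.replicate 5 lw).flatten]) 512 73216 = true := by decide +kernel

end Simple

end CfsgLib.CosetEnum.ON
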