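import Cfsg.Agent.Lib.CosetEnum.ON.SimpleD

set_option autoImplicit false

set_option linter.all false

namespace CfsgLib.CosetEnum.ON

namespace Simple

open CfsgLib.CosetEnum

theorem powOK_73728 : allFrom (fun k => fixesAll CfsgLib.CosetEnum.ON.table k [(List.replicate 5 lw).flatten]) 512 73728 = true := by decide +kernel

theorem powOK_74240 : allFrom (fun k => fixesAll CfsgLib.CosetEnum.ON.table k [(List.replicate 5 lw).flatten]) 512 74240 = true := by decide +kernel

theorem powOK_74752 : allFrom (fun k => fixesAll CfsgLib.CosetEnum.ON.table k [(List.replicate 5 lw).flatten]) 512 74752 = true := by decide +kernel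

theorem powOK_75264 : allFrom (fun k => fixesAll CfsgLib.CosetEnum.ON.table k [(List.replicate 5 lw).flatten]) 512 75264 = true := by decide +kernel

theorem powOK_75776 : allFrom (fun k => fixesAll CfsgLib.CosetEnum.ON.table k [(List.replicate 5 lw).flatten]) 512 75776 = true := by decide +kernel

theorem powOK_76288 : allFrom (fun k => fixesAll CfsgLib.CosetEnum.ON.table k [(List.replicate 5 lw).flatten]) 512 76288 = true := by decide +kernel

theorem powOK_76800 : allFrom (fun k => fixesAll CfsgLib.CosetEnum.ON.table k [(List.replicate 5 lw).flatten]) 512 76800 = true := by decide +kernel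

theorem powOK_77312 : allFrom (fun k => fixesAll CfsgLib.CosetEnum.ON.table k [(List.replicate 5 lw).flatten]) 512 77312 = true := by decide +kernel

theorem powOK_77824 : allFrom (fun k => fixesAll CfsgLib.CosetEnum.ON.table k [(List.replicate 5 lw).flatten]) 512 77824 = true := by decide +kernel

theorem powOK_78336 : allFrom (fun k => fixesAll CfsgLib.CosetEnum.ON.table k [(List.replicate 5 lw).flatten]) 512 78336 = true := by decide +kernel

theorem powOK_78848 : allFrom (fun k => fixesAll CfsgLib.CosetEnum.ON.table k [(List.replicate 5 lw).flatten]) 512 78848 = true := by decide +kernel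

theorem powOK_79360 : allFrom (fun k => fixesAll CfsgLib.CosetEnum.ON.table k [(List.replicate 5 lw).flatten]) 512 79360 = true := by decide +kernel

theorem powOK_79872 : allFrom (fun k => fixesAll CfsgLib.CosetEnum.ON.table k [(List.replicate 5 lw).flatten]) 512 79872 = true := by decide +kernel

theorem powOK_80384 : allFrom (fun k => fixesAll CfsgLib.CosetEnum.ON.table k [(List.replicate 5 lw).flatten]) 512 80384 = true := by decide +kernel

theorem powOK_80896 : allFrom (fun k => fixesAll CfsgLib.CosetEnum.ON.table k [(List.replicate 5 lw).flatten]) 512 80896 = true := by decide +kernel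

theorem powOK_81408 : allFrom (fun k => fixesAll CfsgLib.CosetEnum.ON.table k [(List.replicate 5 lw).flatten]) 512 81408 = true := by decide +kernel

theorem powOK_81920 : allFrom (fun k => fixesAll CfsgLib.CosetEnum.ON.table k [(List.replicate 5 lw).flatten]) 512 81920 = true := by decide +kernel

theorem powOK_82432 : allFrom (fun k => fixesAll CfsgLib.CosetEnum.ON.table k [(List.replicate 5 lw).flatten]) 512 82432 = true := by decide +kernel

theorem powOK_82944 : allFrom (fun k => fixesAll CfsgLib.CosetEnum.ON.table k [(List.replicate 5 lw).flatten]) 512 82944 = true := by decide +kernel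

theorem powOK_83456 : allFrom (fun k => fixesAll CfsgLib.CosetEnum.ON.table k [(List.replicate 5 lw).flatten]) 512 83456 = true := by decide +kernel

theorem powOK_83968 : allFrom (fun k => fixesAll CfsgLib.CosetEnum.ON.table k [(List.replicate 5 lw).flatten]) 512 83968 = true := by decide +kernel

theorem powOK_84480 : allFrom (fun k => fixesAll CfsgLib.CosetEnum.ON.table k [(List.replicate 5 lw).flatten]) 512 84480 = true := by decide +kernel

theorem powOK_84992 : allFrom (fun k => fixesAll CfsgLib.CosetEnum.ON.table k [(List.replicate 5 lw).flatten]) 512 84992 = true := by decide +kernel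

theorem powOK_85504 : allFrom (fun k => fixesAll CfsgLib.CosetEnum.ON.table k [(List.replicate 5 lw).flatten]) 512 85504 = true := by decide +kernel

theorem powOK_86016 : allFrom (fun k => fixesAll CfsgLib.CosetEnum.ON.table k [(List.replicate 5 lw).flatten]) 512 86016 = true := by decide +kernel

theorem powOK_86528 : allFrom (fun k => fixesAll CfsgLib.CosetEnum.ON.table k [(List.replicate 5 lw).flatten]) 512 86528 = true := by decide +kernel

theorem powOK_87040 : allFrom (fun k => fixesAll CfsgLib.CosetEnum.ON.table k [(List.replicate 5 lw).flatten]) 512 87040 = true := by decide +kernel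

theorem powOK_87552 : allFrom (fun k => fixesAll CfsgLib.CosetEnum.ON.table k [(List.replicate 5 lw).flatten]) 512 87552 = true := by decide +kernel

theorem powOK_88064 : allFrom (fun k => fixesAll CfsgLib.CosetEnum.ON.table k [(List.replicate 5 lw).flatten]) 512 88064 = true := by decide +kernel

theorem powOK_88576 : allFrom (fun k => fixesAll CfsgLib.CosetEnum.ON.table k [(List.replicate 5 lw).flatten]) 512 88576 = true := by decide +kernel

theorem powOK_89088 : allFrom (fun k => fixesAll CfsgLib.CosetEnum.ON.table k [(List.replicate 5 lw).flatten]) 512 89088 = true := by decide +kernel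

theorem powOK_89600 : allFrom (fun k => fixesAll CfsgLib.CosetEnum.ON.table k [(List.replicate 5 lw).flatten]) 512 89600 = true := by decide +kernel

theorem powOK_90112 : allFrom (fun k => fixesAll CfsgLib.CosetEnum.ON.table k [(List.replicate 5 lw).flatten]) 512 90112 = true := by decide +kernel

theorem powOK_90624 : allFrom (fun k => fixesAll CfsgLib.CosetEnum.ON.table k [(List.replicate 5 lw).flatten]) 512 90624 = true := by decide +kernel

theorem powOK_91136 : allFrom (fun k => fixesAll CfsgLib.CosetEnum.ON.table k [(List.replicate 5 lw).flatten]) 512 91136 = true := by decide +kernel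

theorem powOK_91648 : allFrom (fun k => fixesAll CfsgLib.CosetEnum.ON.table k [(List.replicate 5 lw).flatten]) 512 91648 = true := by decide +kernel

theorem powOK_92160 : allFrom (fun k => fixesAll CfsgLib.CosetEnum.ON.table k [(List.replicate 5 lw).flatten]) 512 92160 = true := by decide +kernel

theorem powOK_92672 : allFrom (fun k => fixesAll CfsgLib.CosetEnum.ON.table k [(List.replicate 5 lw).flatten]) 512 92672 = true := by decide +kernel

theorem powOK_93184 : allFrom (fun k => fixesAll CfsgLib.CosetEnum.ON.table k [(List.replicate 5 lw).flatten]) 512 93184 = true := by decide +kernel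

theorem powOK_93696 : allFrom (fun k => fixesAll CfsgLib.CosetEnum.ON.table k [(List.replicate 5 lw).flatten]) 512 93696 = true := by decide +kernel

theorem powOK_94208 : allFrom (fun k => fixesAll CfsgLib.CosetEnum.ON.table k [(List.replicate 5 lw).flatten]) 512 94208 = true := by decide +kernel

theorem powOK_94720 : allFrom (fun k => fixesAll CfsgLib.CosetEnum.ON.table k [(List.replicate 5 lw).flatten]) 512 94720 = true := by decide +kernel

theorem powOK_95232 : allFrom (fun k => fixesAll CfsgLib.CosetEnum.ON.table k [(List.replicate 5 lw).flatten]) 512 95232 = true := by decide +kernel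

theorem powOK_95744 : allFrom (fun k => fixesAll CfsgLib.CosetEnum.ON.table k [(List.replicate 5 lw).flatten]) 512 95744 = true := by decide +kernel

theorem powOK_96256 : allFrom (fun k => fixesAll CfsgLib.CosetEnum.ON.table k [(List.replicate 5 lw).flatten]) 512 96256 = true := by decide +kernel

theorem powOK_96768 : allFrom (fun k => fixesAll CfsgLib.CosetEnum.ON.table k [(List.replicate 5 lw).flatten]) 512 96768 = true := by decide +kernel

theorem powOK_97280 : allFrom (fun k => fixesAll CfsgLib.CosetEnum.ON.table k [(List.replicate 5 lw).flatten]) 512 97280 = true := by decide +kernel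

theorem powOK_97792 : allFrom (fun k => fixesAll CfsgLib.CosetEnum.ON.table k [(List.replicate 5 lw).flatten]) 512 97792 = true := by decide +kernel

end Simple

end CfsgLib.CosetEnum.ON
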