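import Cfsg.Agent.Lib.CosetEnum.ON.SimpleD

set_option autoImplicit false

set_option linter.all false

namespace CfsgLib.CosetEnum.ON

namespace Simple

open CfsgLib.CosetEnum

theorem powOK_98304 : allFrom (fun k => fixesAll CfsgLib.CosetEnum.ON.table k [(List.replicate 5 lw).flatten]) 512 98304 = true := by decide +kernel

theorem powOK_98816 : allFrom (fun k => fixesAll CfsgLib.CosetEnum.ON.table k [(List.replicate 5 lw).flatten]) 512 98816 = true := by decide +kernel

theorem powOK_99328 : allFrom (fun k => fixesAll CfsgLib.CosetEnum.ON.table k [(List.replicate 5 lw).flatten]) 512 99328 = true := by decide +kernel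

theorem powOK_99840 : allFrom (fun k => fixesAll CfsgLib.CosetEnum.ON.table k [(List.replicate 5 lw).flatten]) 512 99840 = true := by decide +kernel

theorem powOK_100352 : allFrom (fun k => fixesAll CfsgLib.CosetEnum.ON.table k [(List.replicate 5 lw).flatten]) 512 100352 = true := by decide +kernel

theorem powOK_100864 : allFrom (fun k => fixesAll CfsgLib.CosetEnum.ON.table k [(List.replicate 5 lw).flatten]) 512 100864 = true := by decide +kernel

theorem powOK_101376 : allFrom (fun k => fixesAll CfsgLib.CosetEnum.ON.table k [(List.replicate 5 lw).flatten]) 512 101376 = true := by decide +kernel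

theorem powOK_101888 : allFrom (fun k => fixesAll CfsgLib.CosetEnum.ON.table k [(List.replicate 5 lw).flatten]) 512 101888 = true := by decide +kernel

theorem powOK_102400 : allFrom (fun k => fixesAll CfsgLib.CosetEnum.ON.table k [(List.replicate 5 lw).flatten]) 512 102400 = true := by decide +kernel

theorem powOK_102912 : allFrom (fun k => fixesAll CfsgLib.CosetEnum.ON.table k [(List.replicate 5 lw).flatten]) 512 102912 = true := by decide +kernel

theorem powOK_103424 : allFrom (fun k => fixesAll CfsgLib.CosetEnum.ON.table k [(List.replicate 5 lw).flatten]) 512 103424 = true := by decide +kernel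

theorem powOK_103936 : allFrom (fun k => fixesAll CfsgLib.CosetEnum.ON.table k [(List.replicate 5 lw).flatten]) 512 103936 = true := by decide +kernel

theorem powOK_104448 : allFrom (fun k => fixesAll CfsgLib.CosetEnum.ON.table k [(List.replicate 5 lw).flatten]) 512 104448 = true := by decide +kernel

theorem powOK_104960 : allFrom (fun k => fixesAll CfsgLib.CosetEnum.ON.table k [(List.replicate 5 lw).flatten]) 512 104960 = true := by decide +kernel

theorem powOK_105472 : allFrom (fun k => fixesAll CfsgLib.CosetEnum.ON.table k [(List.replicate 5 lw).flatten]) 512 105472 = true := by decide +kernel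

theorem powOK_105984 : allFrom (fun k => fixesAll CfsgLib.CosetEnum.ON.table k [(List.replicate 5 lw).flatten]) 512 105984 = true := by decide +kernel

theorem powOK_106496 : allFrom (fun k => fixesAll CfsgLib.CosetEnum.ON.table k [(List.replicate 5 lw).flatten]) 512 106496 = true := by decide +kernel

theorem powOK_107008 : allFrom (fun k => fixesAll CfsgLib.CosetEnum.ON.table k [(List.replicate 5 lw).flatten]) 512 107008 = true := by decide +kernel

theorem powOK_107520 : allFrom (fun k => fixesAll CfsgLib.CosetEnum.ON.table k [(List.replicate 5 lw).flatten]) 512 107520 = true := by decide +kernel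

theorem powOK_108032 : allFrom (fun k => fixesAll CfsgLib.CosetEnum.ON.table k [(List.replicate 5 lw).flatten]) 512 108032 = true := by decide +kernel

theorem powOK_108544 : allFrom (fun k => fixesAll CfsgLib.CosetEnum.ON.table k [(List.replicate 5 lw).flatten]) 512 108544 = true := by decide +kernel

theorem powOK_109056 : allFrom (fun k => fixesAll CfsgLib.CosetEnum.ON.table k [(List.replicate 5 lw).flatten]) 512 109056 = true := by decide +kernel

theorem powOK_109568 : allFrom (fun k => fixesAll CfsgLib.CosetEnum.ON.table k [(List.replicate 5 lw).flatten]) 512 109568 = true := by decide +kernel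

theorem powOK_110080 : allFrom (fun k => fixesAll CfsgLib.CosetEnum.ON.table k [(List.replicate 5 lw).flatten]) 512 110080 = true := by decide +kernel

theorem powOK_110592 : allFrom (fun k => fixesAll CfsgLib.CosetEnum.ON.table k [(List.replicate 5 lw).flatten]) 512 110592 = true := by decide +kernel

theorem powOK_111104 : allFrom (fun k => fixesAll CfsgLib.CosetEnum.ON.table k [(List.replicate 5 lw).flatten]) 512 111104 = true := by decide +kernel

theorem powOK_111616 : allFrom (fun k => fixesAll CfsgLib.CosetEnum.ON.table k [(List.replicate 5 lw).flatten]) 512 111616 = true := by decide +kernel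

theorem powOK_112128 : allFrom (fun k => fixesAll CfsgLib.CosetEnum.ON.table k [(List.replicate 5 lw).flatten]) 512 112128 = true := by decide +kernel

theorem powOK_112640 : allFrom (fun k => fixesAll CfsgLib.CosetEnum.ON.table k [(List.replicate 5 lw).flatten]) 512 112640 = true := by decide +kernel

theorem powOK_113152 : allFrom (fun k => fixesAll CfsgLib.CosetEnum.ON.table k [(List.replicate 5 lw).flatten]) 512 113152 = true := by decide +kernel

theorem powOK_113664 : allFrom (fun k => fixesAll CfsgLib.CosetEnum.ON.table k [(List.replicate 5 lw).flatten]) 512 113664 = true := by decide +kernel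

theorem powOK_114176 : allFrom (fun k => fixesAll CfsgLib.CosetEnum.ON.table k [(List.replicate 5 lw).flatten]) 512 114176 = true := by decide +kernel

theorem powOK_114688 : allFrom (fun k => fixesAll CfsgLib.CosetEnum.ON.table k [(List.replicate 5 lw).flatten]) 512 114688 = true := by decide +kernel

theorem powOK_115200 : allFrom (fun k => fixesAll CfsgLib.CosetEnum.ON.table k [(List.replicate 5 lw).flatten]) 512 115200 = true := by decide +kernel

theorem powOK_115712 : allFrom (fun k => fixesAll CfsgLib.CosetEnum.ON.table k [(List.replicate 5 lw).flatten]) 512 115712 = true := by decide +kernel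

theorem powOK_116224 : allFrom (fun k => fixesAll CfsgLib.CosetEnum.ON.table k [(List.replicate 5 lw).flatten]) 512 116224 = true := by decide +kernel

theorem powOK_116736 : allFrom (fun k => fixesAll CfsgLib.CosetEnum.ON.table k [(List.replicate 5 lw).flatten]) 512 116736 = true := by decide +kernel

theorem powOK_117248 : allFrom (fun k => fixesAll CfsgLib.CosetEnum.ON.table k [(List.replicate 5 lw).flatten]) 512 117248 = true := by decide +kernel

theorem powOK_117760 : allFrom (fun k => fixesAll CfsgLib.CosetEnum.ON.table k [(List.replicate 5 lw).flatten]) 512 117760 = true := by decide +kernel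

theorem powOK_118272 : allFrom (fun k => fixesAll CfsgLib.CosetEnum.ON.table k [(List.replicate 5 lw).flatten]) 512 118272 = true := by decide +kernel

theorem powOK_118784 : allFrom (fun k => fixesAll CfsgLib.CosetEnum.ON.table k [(List.replicate 5 lw).flatten]) 512 118784 = true := by decide +kernel

theorem powOK_119296 : allFrom (fun k => fixesAll CfsgLib.CosetEnum.ON.table k [(List.replicate 5 lw).flatten]) 512 119296 = true := by decide +kernel

theorem powOK_119808 : allFrom (fun k => fixesAll CfsgLib.CosetEnum.ON.table k [(List.replicate 5 lw).flatten]) 512 119808 = true := by decide +kernel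

theorem powOK_120320 : allFrom (fun k => fixesAll CfsgLib.CosetEnum.ON.table k [(List.replicate 5 lw).flatten]) 512 120320 = true := by decide +kernel

theorem powOK_120832 : allFrom (fun k => fixesAll CfsgLib.CosetEnum.ON.table k [(List.replicate 5 lw).flatten]) 512 120832 = true := by decide +kernel

theorem powOK_121344 : allFrom (fun k => fixesAll CfsgLib.CosetEnum.ON.table k [(List.replicate 5 lw).flatten]) 512 121344 = true := by decide +kernel

theorem powOK_121856 : allFrom (fun k => fixesAll CfsgLib.CosetEnum.ON.table k [(List.replicate 5 lw).flatten]) 512 121856 = true := by decide +kernel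

theorem powOK_122368 : allFrom (fun k => fixesAll CfsgLib.CosetEnum.ON.table k [(List.replicate 5 lw).flatten]) 392 122368 = true := by decide +kernel

end Simple

end CfsgLib.CosetEnum.ON
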