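import Cfsg.Agent.Lib.CosetEnum.ON.Orbits
import Cfsg.Agent.Lib.CosetEnum.ON.SimpleQ0
import Cfsg.Agent.Lib.CosetEnum.ON.SimpleQ1
import Cfsg.Agent.Lib.CosetEnum.ON.SimpleQ2
import Cfsg.Agent.Lib.CosetEnum.ON.SimpleQ3
import Cfsg.Agent.Lib.CosetEnum.ON.SimpleQ4

set_option autoImplicit false

set_option linter.all false

namespace CfsgLib.CosetEnum.ON

namespace Simple

open CfsgLib.CosetEnum

theorem facts_ok_upto112 : ∀ j < 112, ∃ item, checkFact facts 18364758542614016535 words 128 subs 28 j item = true := fun j hj =>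
  have h : 0 ≤ j := Nat.zero_le j
  checkFacts_spec _ _ _ _ _ _ items0 0 facts_ok0 j h (lt_of_lt_of_eq hj (by decide +kernel))

theorem facts_ok : ∀ j < 112, ∃ item, checkFact facts 18364758542614016535 words 128 subs 28 j item = true := facts_ok_upto112

theorem rows_ok_upto1 : ∀ k < 1, checkRow facts 18364758542614016535 lives entryFact 1 8 112 k table 0 = true := fun k hk =>
  have h : 0 ≤ k := Nat.zero_le k
  checkRows_spec _ _ _ _ _ _ _ _ _ _ rows_0 k h hk

theorem rows_ok : ∀ k < 1, checkRow facts 18364758542614016535 lives entryFact 1 8 112 k table 0 = true := rows_ok_upto1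

theorem words_fit : words.fits 128 64 = true := by decide +kernel

theorem words_eq : listEq (words.entries 128 64) (allCodes 18364758542614016535 8 lsq) = true := by decide +kernel

theorem subs_fit : subs.fits 128 64 = true := by decide +kernel

theorem subs_eq : listEq (subs.entries 128 64) (subCodes 18364758542614016535 lsub) = true := by decide +kernel

theorem lives_zero : Nat.beq (lives.get 20 0) 0 = true := by decide +kernel

theorem pow_ok_upto512 : ∀ k < 512, fixesAll CfsgLib.CosetEnum.ON.table k [(List.replicate 5 lw).flatten] = true := fun k hk =>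
  have h : 0 ≤ k := Nat.zero_le k
  allFrom_spec _ _ _ powOK_0 k h hk

theorem pow_ok_upto1024 : ∀ k < 1024, fixesAll CfsgLib.CosetEnum.ON.table k [(List.replicate 5 lw).flatten] = true := fun k hk =>
  (Nat.lt_or_ge k 512).elim (pow_ok_upto512 k) fun h =>
    allFrom_spec _ _ _ powOK_512 k h hk

theorem pow_ok_upto1536 : ∀ k < 1536, fixesAll CfsgLib.CosetEnum.ON.table k [(List.replicate 5 lw).flatten] = true := fun k hk =>
  (Nat.lt_or_ge k 1024).elim (pow_ok_upto1024 k) fun h =>
    allFrom_spec _ _ _ powOK_1024 k h hk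

theorem pow_ok_upto2048 : ∀ k < 2048, fixesAll CfsgLib.CosetEnum.ON.table k [(List.replicate 5 lw).flatten] = true := fun k hk =>
  (Nat.lt_or_ge k 1536).elim (pow_ok_upto1536 k) fun h =>
    allFrom_spec _ _ _ powOK_1536 k h hk

theorem pow_ok_upto2560 : ∀ k < 2560, fixesAll CfsgLib.CosetEnum.ON.table k [(List.replicate 5 lw).flatten] = true := fun k hk =>
  (Nat.lt_or_ge k 2048).elim (pow_ok_upto2048 k) fun h =>
    allFrom_spec _ _ _ powOK_2048 k h hk

theorem pow_ok_upto3072 : ∀ k < 3072, fixesAll CfsgLib.CosetEnum.ON.table k [(List.replicate 5 lw).flatten] = true := fun k hk =>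
  (Nat.lt_or_ge k 2560).elim (pow_ok_upto2560 k) fun h =>
    allFrom_spec _ _ _ powOK_2560 k h hk

theorem pow_ok_upto3584 : ∀ k < 3584, fixesAll CfsgLib.CosetEnum.ON.table k [(List.replicate 5 lw).flatten] = true := fun k hk =>
  (Nat.lt_or_ge k 3072).elim (pow_ok_upto3072 k) fun h =>
    allFrom_spec _ _ _ powOK_3072 k h hk

theorem pow_ok_upto4096 : ∀ k < 4096, fixesAll CfsgLib.CosetEnum.ON.table k [(List.replicate 5 lw).flatten] = true := fun k hk =>
  (Nat.lt_or_ge k 3584).elim (pow_ok_upto3584 k) fun h =>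
    allFrom_spec _ _ _ powOK_3584 k h hk

theorem pow_ok_upto4608 : ∀ k < 4608, fixesAll CfsgLib.CosetEnum.ON.table k [(List.replicate 5 lw).flatten] = true := fun k hk =>
  (Nat.lt_or_ge k 4096).elim (pow_ok_upto4096 k) fun h =>
    allFrom_spec _ _ _ powOK_4096 k h hk

theorem pow_ok_upto5120 : ∀ k < 5120, fixesAll CfsgLib.CosetEnum.ON.table k [(List.replicate 5 lw).flatten] = true := fun k hk =>
  (Nat.lt_or_ge k 4608).elim (pow_ok_upto4608 k) fun h =>
    allFrom_spec _ _ _ powOK_4608 k h hk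

theorem pow_ok_upto5632 : ∀ k < 5632, fixesAll CfsgLib.CosetEnum.ON.table k [(List.replicate 5 lw).flatten] = true := fun k hk =>
  (Nat.lt_or_ge k 5120).elim (pow_ok_upto5120 k) fun h =>
    allFrom_spec _ _ _ powOK_5120 k h hk

theorem pow_ok_upto6144 : ∀ k < 6144, fixesAll CfsgLib.CosetEnum.ON.table k [(List.replicate 5 lw).flatten] = true := fun k hk =>
  (Nat.lt_or_ge k 5632).elim (pow_ok_upto5632 k) fun h =>
    allFrom_spec _ _ _ powOK_5632 k h hk

theorem pow_ok_upto6656 : ∀ k < 6656, fixesAll CfsgLib.CosetEnum.ON.table k [(List.replicate 5 lw).flatten] = true := fun k hk =>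
  (Nat.lt_or_ge k 6144).elim (pow_ok_upto6144 k) fun h =>
    allFrom_spec _ _ _ powOK_6144 k h hk

theorem pow_ok_upto7168 : ∀ k < 7168, fixesAll CfsgLib.CosetEnum.ON.table k [(List.replicate 5 lw).flatten] = true := fun k hk =>
  (Nat.lt_or_ge k 6656).elim (pow_ok_upto6656 k) fun h =>
    allFrom_spec _ _ _ powOK_6656 k h hk

theorem pow_ok_upto7680 : ∀ k < 7680, fixesAll CfsgLib.CosetEnum.ON.table k [(List.replicate 5 lw).flatten] = true := fun k hk =>
  (Nat.lt_or_ge k 7168).elim (pow_ok_upto7168 k) fun h =>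
    allFrom_spec _ _ _ powOK_7168 k h hk

theorem pow_ok_upto8192 : ∀ k < 8192, fixesAll CfsgLib.CosetEnum.ON.table k [(List.replicate 5 lw).flatten] = true := fun k hk =>
  (Nat.lt_or_ge k 7680).elim (pow_ok_upto7680 k) fun h =>
    allFrom_spec _ _ _ powOK_7680 k h hk

theorem pow_ok_upto8704 : ∀ k < 8704, fixesAll CfsgLib.CosetEnum.ON.table k [(List.replicate 5 lw).flatten] = true := fun k hk =>
  (Nat.lt_or_ge k 8192).elim (pow_ok_upto8192 k) fun h =>
    allFrom_spec _ _ _ powOK_8192 k h hk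

theorem pow_ok_upto9216 : ∀ k < 9216, fixesAll CfsgLib.CosetEnum.ON.table k [(List.replicate 5 lw).flatten] = true := fun k hk =>
  (Nat.lt_or_ge k 8704).elim (pow_ok_upto8704 k) fun h =>
    allFrom_spec _ _ _ powOK_8704 k h hk

theorem pow_ok_upto9728 : ∀ k < 9728, fixesAll CfsgLib.CosetEnum.ON.table k [(List.replicate 5 lw).flatten] = true := fun k hk =>
  (Nat.lt_or_ge k 9216).elim (pow_ok_upto9216 k) fun h =>
    allFrom_spec _ _ _ powOK_9216 k h hk

theorem pow_ok_upto10240 : ∀ k < 10240, fixesAll CfsgLib.CosetEnum.ON.table k [(List.replicate 5 lw).flatten] = true := fun k hk =>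
  (Nat.lt_or_ge k 9728).elim (pow_ok_upto9728 k) fun h =>
    allFrom_spec _ _ _ powOK_9728 k h hk

theorem pow_ok_upto10752 : ∀ k < 10752, fixesAll CfsgLib.CosetEnum.ON.table k [(List.replicate 5 lw).flatten] = true := fun k hk =>
  (Nat.lt_or_ge k 10240).elim (pow_ok_upto10240 k) fun h =>
    allFrom_spec _ _ _ powOK_10240 k h hk

theorem pow_ok_upto11264 : ∀ k < 11264, fixesAll CfsgLib.CosetEnum.ON.table k [(List.replicate 5 lw).flatten] = true := fun k hk =>
  (Nat.lt_or_ge k 10752).elim (pow_ok_upto10752 k) fun h =>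
    allFrom_spec _ _ _ powOK_10752 k h hk

theorem pow_ok_upto11776 : ∀ k < 11776, fixesAll CfsgLib.CosetEnum.ON.table k [(List.replicate 5 lw).flatten] = true := fun k hk =>
  (Nat.lt_or_ge k 11264).elim (pow_ok_upto11264 k) fun h =>
    allFrom_spec _ _ _ powOK_11264 k h hk

theorem pow_ok_upto12288 : ∀ k < 12288, fixesAll CfsgLib.CosetEnum.ON.table k [(List.replicate 5 lw).flatten] = true := fun k hk =>
  (Nat.lt_or_ge k 11776).elim (pow_ok_upto11776 k) fun h =>
    allFrom_spec _ _ _ powOK_11776 k h hk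

theorem pow_ok_upto12800 : ∀ k < 12800, fixesAll CfsgLib.CosetEnum.ON.table k [(List.replicate 5 lw).flatten] = true := fun k hk =>
  (Nat.lt_or_ge k 12288).elim (pow_ok_upto12288 k) fun h =>
    allFrom_spec _ _ _ powOK_12288 k h hk

theorem pow_ok_upto13312 : ∀ k < 13312, fixesAll CfsgLib.CosetEnum.ON.table k [(List.replicate 5 lw).flatten] = true := fun k hk =>
  (Nat.lt_or_ge k 12800).elim (pow_ok_upto12800 k) fun h =>
    allFrom_spec _ _ _ powOK_12800 k h hk

theorem pow_ok_upto13824 : ∀ k < 13824, fixesAll CfsgLib.CosetEnum.ON.table k [(List.replicate 5 lw).flatten] = true := fun k hk =>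
  (Nat.lt_or_ge k 13312).elim (pow_ok_upto13312 k) fun h =>
    allFrom_spec _ _ _ powOK_13312 k h hk

theorem pow_ok_upto14336 : ∀ k < 14336, fixesAll CfsgLib.CosetEnum.ON.table k [(List.replicate 5 lw).flatten] = true := fun k hk =>
  (Nat.lt_or_ge k 13824).elim (pow_ok_upto13824 k) fun h =>
    allFrom_spec _ _ _ powOK_13824 k h hk

theorem pow_ok_upto14848 : ∀ k < 14848, fixesAll CfsgLib.CosetEnum.ON.table k [(List.replicate 5 lw).flatten] = true := fun k hk =>
  (Nat.lt_or_ge k 14336).elim (pow_ok_upto14336 k) fun h =>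
    allFrom_spec _ _ _ powOK_14336 k h hk

theorem pow_ok_upto15360 : ∀ k < 15360, fixesAll CfsgLib.CosetEnum.ON.table k [(List.replicate 5 lw).flatten] = true := fun k hk =>
  (Nat.lt_or_ge k 14848).elim (pow_ok_upto14848 k) fun h =>
    allFrom_spec _ _ _ powOK_14848 k h hk

theorem pow_ok_upto15872 : ∀ k < 15872, fixesAll CfsgLib.CosetEnum.ON.table k [(List.replicate 5 lw).flatten] = true := fun k hk =>
  (Nat.lt_or_ge k 15360).elim (pow_ok_upto15360 k) fun h =>
    allFrom_spec _ _ _ powOK_15360 k h hk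

theorem pow_ok_upto16384 : ∀ k < 16384, fixesAll CfsgLib.CosetEnum.ON.table k [(List.replicate 5 lw).flatten] = true := fun k hk =>
  (Nat.lt_or_ge k 15872).elim (pow_ok_upto15872 k) fun h =>
    allFrom_spec _ _ _ powOK_15872 k h hk

theorem pow_ok_upto16896 : ∀ k < 16896, fixesAll CfsgLib.CosetEnum.ON.table k [(List.replicate 5 lw).flatten] = true := fun k hk =>
  (Nat.lt_or_ge k 16384).elim (pow_ok_upto16384 k) fun h =>
    allFrom_spec _ _ _ powOK_16384 k h hk

theorem pow_ok_upto17408 : ∀ k < 17408, fixesAll CfsgLib.CosetEnum.ON.table k [(List.replicate 5 lw).flatten] = true := fun k hk =>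
  (Nat.lt_or_ge k 16896).elim (pow_ok_upto16896 k) fun h =>
    allFrom_spec _ _ _ powOK_16896 k h hk

theorem pow_ok_upto17920 : ∀ k < 17920, fixesAll CfsgLib.CosetEnum.ON.table k [(List.replicate 5 lw).flatten] = true := fun k hk =>
  (Nat.lt_or_ge k 17408).elim (pow_ok_upto17408 k) fun h =>
    allFrom_spec _ _ _ powOK_17408 k h hk

theorem pow_ok_upto18432 : ∀ k < 18432, fixesAll CfsgLib.CosetEnum.ON.table k [(List.replicate 5 lw).flatten] = true := fun k hk =>
  (Nat.lt_or_ge k 17920).elim (pow_ok_upto17920 k) fun h =>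
    allFrom_spec _ _ _ powOK_17920 k h hk

theorem pow_ok_upto18944 : ∀ k < 18944, fixesAll CfsgLib.CosetEnum.ON.table k [(List.replicate 5 lw).flatten] = true := fun k hk =>
  (Nat.lt_or_ge k 18432).elim (pow_ok_upto18432 k) fun h =>
    allFrom_spec _ _ _ powOK_18432 k h hk

theorem pow_ok_upto19456 : ∀ k < 19456, fixesAll CfsgLib.CosetEnum.ON.table k [(List.replicate 5 lw).flatten] = true := fun k hk =>
  (Nat.lt_or_ge k 18944).elim (pow_ok_upto18944 k) fun h =>
    allFrom_spec _ _ _ powOK_18944 k h hk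

theorem pow_ok_upto19968 : ∀ k < 19968, fixesAll CfsgLib.CosetEnum.ON.table k [(List.replicate 5 lw).flatten] = true := fun k hk =>
  (Nat.lt_or_ge k 19456).elim (pow_ok_upto19456 k) fun h =>
    allFrom_spec _ _ _ powOK_19456 k h hk

theorem pow_ok_upto20480 : ∀ k < 20480, fixesAll CfsgLib.CosetEnum.ON.table k [(List.replicate 5 lw).flatten] = true := fun k hk =>
  (Nat.lt_or_ge k 19968).elim (pow_ok_upto19968 k) fun h =>
    allFrom_spec _ _ _ powOK_19968 k h hk

theorem pow_ok_upto20992 : ∀ k < 20992, fixesAll CfsgLib.CosetEnum.ON.table k [(List.replicate 5 lw).flatten] = true := fun k hk =>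
  (Nat.lt_or_ge k 20480).elim (pow_ok_upto20480 k) fun h =>
    allFrom_spec _ _ _ powOK_20480 k h hk

theorem pow_ok_upto21504 : ∀ k < 21504, fixesAll CfsgLib.CosetEnum.ON.table k [(List.replicate 5 lw).flatten] = true := fun k hk =>
  (Nat.lt_or_ge k 20992).elim (pow_ok_upto20992 k) fun h =>
    allFrom_spec _ _ _ powOK_20992 k h hk

theorem pow_ok_upto22016 : ∀ k < 22016, fixesAll CfsgLib.CosetEnum.ON.table k [(List.replicate 5 lw).flatten] = true := fun k hk =>
  (Nat.lt_or_ge k 21504).elim (pow_ok_upto21504 k) fun h =>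
    allFrom_spec _ _ _ powOK_21504 k h hk

theorem pow_ok_upto22528 : ∀ k < 22528, fixesAll CfsgLib.CosetEnum.ON.table k [(List.replicate 5 lw).flatten] = true := fun k hk =>
  (Nat.lt_or_ge k 22016).elim (pow_ok_upto22016 k) fun h =>
    allFrom_spec _ _ _ powOK_22016 k h hk

theorem pow_ok_upto23040 : ∀ k < 23040, fixesAll CfsgLib.CosetEnum.ON.table k [(List.replicate 5 lw).flatten] = true := fun k hk =>
  (Nat.lt_or_ge k 22528).elim (pow_ok_upto22528 k) fun h =>
    allFrom_spec _ _ _ powOK_22528 k h hk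

theorem pow_ok_upto23552 : ∀ k < 23552, fixesAll CfsgLib.CosetEnum.ON.table k [(List.replicate 5 lw).flatten] = true := fun k hk =>
  (Nat.lt_or_ge k 23040).elim (pow_ok_upto23040 k) fun h =>
    allFrom_spec _ _ _ powOK_23040 k h hk

theorem pow_ok_upto24064 : ∀ k < 24064, fixesAll CfsgLib.CosetEnum.ON.table k [(List.replicate 5 lw).flatten] = true := fun k hk =>
  (Nat.lt_or_ge k 23552).elim (pow_ok_upto23552 k) fun h =>
    allFrom_spec _ _ _ powOK_23552 k h hk

theorem pow_ok_upto24576 : ∀ k < 24576, fixesAll CfsgLib.CosetEnum.ON.table k [(List.replicate 5 lw).flatten] = true := fun k hk =>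
  (Nat.lt_or_ge k 24064).elim (pow_ok_upto24064 k) fun h =>
    allFrom_spec _ _ _ powOK_24064 k h hk

theorem pow_ok_upto25088 : ∀ k < 25088, fixesAll CfsgLib.CosetEnum.ON.table k [(List.replicate 5 lw).flatten] = true := fun k hk =>
  (Nat.lt_or_ge k 24576).elim (pow_ok_upto24576 k) fun h =>
    allFrom_spec _ _ _ powOK_24576 k h hk

theorem pow_ok_upto25600 : ∀ k < 25600, fixesAll CfsgLib.CosetEnum.ON.table k [(List.replicate 5 lw).flatten] = true := fun k hk =>
  (Nat.lt_or_ge k 25088).elim (pow_ok_upto25088 k) fun h =>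
    allFrom_spec _ _ _ powOK_25088 k h hk

theorem pow_ok_upto26112 : ∀ k < 26112, fixesAll CfsgLib.CosetEnum.ON.table k [(List.replicate 5 lw).flatten] = true := fun k hk =>
  (Nat.lt_or_ge k 25600).elim (pow_ok_upto25600 k) fun h =>
    allFrom_spec _ _ _ powOK_25600 k h hk

theorem pow_ok_upto26624 : ∀ k < 26624, fixesAll CfsgLib.CosetEnum.ON.table k [(List.replicate 5 lw).flatten] = true := fun k hk =>
  (Nat.lt_or_ge k 26112).elim (pow_ok_upto26112 k) fun h =>
    allFrom_spec _ _ _ powOK_26112 k h hk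

theorem pow_ok_upto27136 : ∀ k < 27136, fixesAll CfsgLib.CosetEnum.ON.table k [(List.replicate 5 lw).flatten] = true := fun k hk =>
  (Nat.lt_or_ge k 26624).elim (pow_ok_upto26624 k) fun h =>
    allFrom_spec _ _ _ powOK_26624 k h hk

theorem pow_ok_upto27648 : ∀ k < 27648, fixesAll CfsgLib.CosetEnum.ON.table k [(List.replicate 5 lw).flatten] = true := fun k hk =>
  (Nat.lt_or_ge k 27136).elim (pow_ok_upto27136 k) fun h =>
    allFrom_spec _ _ _ powOK_27136 k h hk

theorem pow_ok_upto28160 : ∀ k < 28160, fixesAll CfsgLib.CosetEnum.ON.table k [(List.replicate 5 lw).flatten] = true := fun k hk =>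
  (Nat.lt_or_ge k 27648).elim (pow_ok_upto27648 k) fun h =>
    allFrom_spec _ _ _ powOK_27648 k h hk

theorem pow_ok_upto28672 : ∀ k < 28672, fixesAll CfsgLib.CosetEnum.ON.table k [(List.replicate 5 lw).flatten] = true := fun k hk =>
  (Nat.lt_or_ge k 28160).elim (pow_ok_upto28160 k) fun h =>
    allFrom_spec _ _ _ powOK_28160 k h hk

theorem pow_ok_upto29184 : ∀ k < 29184, fixesAll CfsgLib.CosetEnum.ON.table k [(List.replicate 5 lw).flatten] = true := fun k hk =>
  (Nat.lt_or_ge k 28672).elim (pow_ok_upto28672 k) fun h =>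
    allFrom_spec _ _ _ powOK_28672 k h hk

theorem pow_ok_upto29696 : ∀ k < 29696, fixesAll CfsgLib.CosetEnum.ON.table k [(List.replicate 5 lw).flatten] = true := fun k hk =>
  (Nat.lt_or_ge k 29184).elim (pow_ok_upto29184 k) fun h =>
    allFrom_spec _ _ _ powOK_29184 k h hk

theorem pow_ok_upto30208 : ∀ k < 30208, fixesAll CfsgLib.CosetEnum.ON.table k [(List.replicate 5 lw).flatten] = true := fun k hk =>
  (Nat.lt_or_ge k 29696).elim (pow_ok_upto29696 k) fun h =>
    allFrom_spec _ _ _ powOK_29696 k h hk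

theorem pow_ok_upto30720 : ∀ k < 30720, fixesAll CfsgLib.CosetEnum.ON.table k [(List.replicate 5 lw).flatten] = true := fun k hk =>
  (Nat.lt_or_ge k 30208).elim (pow_ok_upto30208 k) fun h =>
    allFrom_spec _ _ _ powOK_30208 k h hk

theorem pow_ok_upto31232 : ∀ k < 31232, fixesAll CfsgLib.CosetEnum.ON.table k [(List.replicate 5 lw).flatten] = true := fun k hk =>
  (Nat.lt_or_ge k 30720).elim (pow_ok_upto30720 k) fun h =>
    allFrom_spec _ _ _ powOK_30720 k h hk

theorem pow_ok_upto31744 : ∀ k < 31744, fixesAll CfsgLib.CosetEnum.ON.table k [(List.replicate 5 lw).flatten] = true := fun k hk =>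
  (Nat.lt_or_ge k 31232).elim (pow_ok_upto31232 k) fun h =>
    allFrom_spec _ _ _ powOK_31232 k h hk

theorem pow_ok_upto32256 : ∀ k < 32256, fixesAll CfsgLib.CosetEnum.ON.table k [(List.replicate 5 lw).flatten] = true := fun k hk =>
  (Nat.lt_or_ge k 31744).elim (pow_ok_upto31744 k) fun h =>
    allFrom_spec _ _ _ powOK_31744 k h hk

theorem pow_ok_upto32768 : ∀ k < 32768, fixesAll CfsgLib.CosetEnum.ON.table k [(List.replicate 5 lw).flatten] = true := fun k hk =>
  (Nat.lt_or_ge k 32256).elim (pow_ok_upto32256 k) fun h =>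
    allFrom_spec _ _ _ powOK_32256 k h hk

theorem pow_ok_upto33280 : ∀ k < 33280, fixesAll CfsgLib.CosetEnum.ON.table k [(List.replicate 5 lw).flatten] = true := fun k hk =>
  (Nat.lt_or_ge k 32768).elim (pow_ok_upto32768 k) fun h =>
    allFrom_spec _ _ _ powOK_32768 k h hk

theorem pow_ok_upto33792 : ∀ k < 33792, fixesAll CfsgLib.CosetEnum.ON.table k [(List.replicate 5 lw).flatten] = true := fun k hk =>
  (Nat.lt_or_ge k 33280).elim (pow_ok_upto33280 k) fun h =>
    allFrom_spec _ _ _ powOK_33280 k h hk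

theorem pow_ok_upto34304 : ∀ k < 34304, fixesAll CfsgLib.CosetEnum.ON.table k [(List.replicate 5 lw).flatten] = true := fun k hk =>
  (Nat.lt_or_ge k 33792).elim (pow_ok_upto33792 k) fun h =>
    allFrom_spec _ _ _ powOK_33792 k h hk

theorem pow_ok_upto34816 : ∀ k < 34816, fixesAll CfsgLib.CosetEnum.ON.table k [(List.replicate 5 lw).flatten] = true := fun k hk =>
  (Nat.lt_or_ge k 34304).elim (pow_ok_upto34304 k) fun h =>
    allFrom_spec _ _ _ powOK_34304 k h hk

theorem pow_ok_upto35328 : ∀ k < 35328, fixesAll CfsgLib.CosetEnum.ON.table k [(List.replicate 5 lw).flatten] = true := fun k hk =>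
  (Nat.lt_or_ge k 34816).elim (pow_ok_upto34816 k) fun h =>
    allFrom_spec _ _ _ powOK_34816 k h hk

theorem pow_ok_upto35840 : ∀ k < 35840, fixesAll CfsgLib.CosetEnum.ON.table k [(List.replicate 5 lw).flatten] = true := fun k hk =>
  (Nat.lt_or_ge k 35328).elim (pow_ok_upto35328 k) fun h =>
    allFrom_spec _ _ _ powOK_35328 k h hk

theorem pow_ok_upto36352 : ∀ k < 36352, fixesAll CfsgLib.CosetEnum.ON.table k [(List.replicate 5 lw).flatten] = true := fun k hk =>
  (Nat.lt_or_ge k 35840).elim (pow_ok_upto35840 k) fun h =>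
    allFrom_spec _ _ _ powOK_35840 k h hk

theorem pow_ok_upto36864 : ∀ k < 36864, fixesAll CfsgLib.CosetEnum.ON.table k [(List.replicate 5 lw).flatten] = true := fun k hk =>
  (Nat.lt_or_ge k 36352).elim (pow_ok_upto36352 k) fun h =>
    allFrom_spec _ _ _ powOK_36352 k h hk

theorem pow_ok_upto37376 : ∀ k < 37376, fixesAll CfsgLib.CosetEnum.ON.table k [(List.replicate 5 lw).flatten] = true := fun k hk =>
  (Nat.lt_or_ge k 36864).elim (pow_ok_upto36864 k) fun h =>
    allFrom_spec _ _ _ powOK_36864 k h hk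

theorem pow_ok_upto37888 : ∀ k < 37888, fixesAll CfsgLib.CosetEnum.ON.table k [(List.replicate 5 lw).flatten] = true := fun k hk =>
  (Nat.lt_or_ge k 37376).elim (pow_ok_upto37376 k) fun h =>
    allFrom_spec _ _ _ powOK_37376 k h hk

theorem pow_ok_upto38400 : ∀ k < 38400, fixesAll CfsgLib.CosetEnum.ON.table k [(List.replicate 5 lw).flatten] = true := fun k hk =>
  (Nat.lt_or_ge k 37888).elim (pow_ok_upto37888 k) fun h =>
    allFrom_spec _ _ _ powOK_37888 k h hk

theorem pow_ok_upto38912 : ∀ k < 38912, fixesAll CfsgLib.CosetEnum.ON.table k [(List.replicate 5 lw).flatten] = true := fun k hk =>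
  (Nat.lt_or_ge k 38400).elim (pow_ok_upto38400 k) fun h =>
    allFrom_spec _ _ _ powOK_38400 k h hk

theorem pow_ok_upto39424 : ∀ k < 39424, fixesAll CfsgLib.CosetEnum.ON.table k [(List.replicate 5 lw).flatten] = true := fun k hk =>
  (Nat.lt_or_ge k 38912).elim (pow_ok_upto38912 k) fun h =>
    allFrom_spec _ _ _ powOK_38912 k h hk

theorem pow_ok_upto39936 : ∀ k < 39936, fixesAll CfsgLib.CosetEnum.ON.table k [(List.replicate 5 lw).flatten] = true := fun k hk =>
  (Nat.lt_or_ge k 39424).elim (pow_ok_upto39424 k) fun h =>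
    allFrom_spec _ _ _ powOK_39424 k h hk

theorem pow_ok_upto40448 : ∀ k < 40448, fixesAll CfsgLib.CosetEnum.ON.table k [(List.replicate 5 lw).flatten] = true := fun k hk =>
  (Nat.lt_or_ge k 39936).elim (pow_ok_upto39936 k) fun h =>
    allFrom_spec _ _ _ powOK_39936 k h hk

theorem pow_ok_upto40960 : ∀ k < 40960, fixesAll CfsgLib.CosetEnum.ON.table k [(List.replicate 5 lw).flatten] = true := fun k hk =>
  (Nat.lt_or_ge k 40448).elim (pow_ok_upto40448 k) fun h =>
    allFrom_spec _ _ _ powOK_40448 k h hk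

theorem pow_ok_upto41472 : ∀ k < 41472, fixesAll CfsgLib.CosetEnum.ON.table k [(List.replicate 5 lw).flatten] = true := fun k hk =>
  (Nat.lt_or_ge k 40960).elim (pow_ok_upto40960 k) fun h =>
    allFrom_spec _ _ _ powOK_40960 k h hk

theorem pow_ok_upto41984 : ∀ k < 41984, fixesAll CfsgLib.CosetEnum.ON.table k [(List.replicate 5 lw).flatten] = true := fun k hk =>
  (Nat.lt_or_ge k 41472).elim (pow_ok_upto41472 k) fun h =>
    allFrom_spec _ _ _ powOK_41472 k h hk

theorem pow_ok_upto42496 : ∀ k < 42496, fixesAll CfsgLib.CosetEnum.ON.table k [(List.replicate 5 lw).flatten] = true := fun k hk =>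
  (Nat.lt_or_ge k 41984).elim (pow_ok_upto41984 k) fun h =>
    allFrom_spec _ _ _ powOK_41984 k h hk

theorem pow_ok_upto43008 : ∀ k < 43008, fixesAll CfsgLib.CosetEnum.ON.table k [(List.replicate 5 lw).flatten] = true := fun k hk =>
  (Nat.lt_or_ge k 42496).elim (pow_ok_upto42496 k) fun h =>
    allFrom_spec _ _ _ powOK_42496 k h hk

theorem pow_ok_upto43520 : ∀ k < 43520, fixesAll CfsgLib.CosetEnum.ON.table k [(List.replicate 5 lw).flatten] = true := fun k hk =>
  (Nat.lt_or_ge k 43008).elim (pow_ok_upto43008 k) fun h =>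
    allFrom_spec _ _ _ powOK_43008 k h hk

theorem pow_ok_upto44032 : ∀ k < 44032, fixesAll CfsgLib.CosetEnum.ON.table k [(List.replicate 5 lw).flatten] = true := fun k hk =>
  (Nat.lt_or_ge k 43520).elim (pow_ok_upto43520 k) fun h =>
    allFrom_spec _ _ _ powOK_43520 k h hk

theorem pow_ok_upto44544 : ∀ k < 44544, fixesAll CfsgLib.CosetEnum.ON.table k [(List.replicate 5 lw).flatten] = true := fun k hk =>
  (Nat.lt_or_ge k 44032).elim (pow_ok_upto44032 k) fun h =>
    allFrom_spec _ _ _ powOK_44032 k h hk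

theorem pow_ok_upto45056 : ∀ k < 45056, fixesAll CfsgLib.CosetEnum.ON.table k [(List.replicate 5 lw).flatten] = true := fun k hk =>
  (Nat.lt_or_ge k 44544).elim (pow_ok_upto44544 k) fun h =>
    allFrom_spec _ _ _ powOK_44544 k h hk

theorem pow_ok_upto45568 : ∀ k < 45568, fixesAll CfsgLib.CosetEnum.ON.table k [(List.replicate 5 lw).flatten] = true := fun k hk =>
  (Nat.lt_or_ge k 45056).elim (pow_ok_upto45056 k) fun h =>
    allFrom_spec _ _ _ powOK_45056 k h hk

theorem pow_ok_upto46080 : ∀ k < 46080, fixesAll CfsgLib.CosetEnum.ON.table k [(List.replicate 5 lw).flatten] = true := fun k hk =>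
  (Nat.lt_or_ge k 45568).elim (pow_ok_upto45568 k) fun h =>
    allFrom_spec _ _ _ powOK_45568 k h hk

theorem pow_ok_upto46592 : ∀ k < 46592, fixesAll CfsgLib.CosetEnum.ON.table k [(List.replicate 5 lw).flatten] = true := fun k hk =>
  (Nat.lt_or_ge k 46080).elim (pow_ok_upto46080 k) fun h =>
    allFrom_spec _ _ _ powOK_46080 k h hk

theorem pow_ok_upto47104 : ∀ k < 47104, fixesAll CfsgLib.CosetEnum.ON.table k [(List.replicate 5 lw).flatten] = true := fun k hk =>
  (Nat.lt_or_ge k 46592).elim (pow_ok_upto46592 k) fun h =>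
    allFrom_spec _ _ _ powOK_46592 k h hk

theorem pow_ok_upto47616 : ∀ k < 47616, fixesAll CfsgLib.CosetEnum.ON.table k [(List.replicate 5 lw).flatten] = true := fun k hk =>
  (Nat.lt_or_ge k 47104).elim (pow_ok_upto47104 k) fun h =>
    allFrom_spec _ _ _ powOK_47104 k h hk

theorem pow_ok_upto48128 : ∀ k < 48128, fixesAll CfsgLib.CosetEnum.ON.table k [(List.replicate 5 lw).flatten] = true := fun k hk =>
  (Nat.lt_or_ge k 47616).elim (pow_ok_upto47616 k) fun h =>
    allFrom_spec _ _ _ powOK_47616 k h hk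

theorem pow_ok_upto48640 : ∀ k < 48640, fixesAll CfsgLib.CosetEnum.ON.table k [(List.replicate 5 lw).flatten] = true := fun k hk =>
  (Nat.lt_or_ge k 48128).elim (pow_ok_upto48128 k) fun h =>
    allFrom_spec _ _ _ powOK_48128 k h hk

theorem pow_ok_upto49152 : ∀ k < 49152, fixesAll CfsgLib.CosetEnum.ON.table k [(List.replicate 5 lw).flatten] = true := fun k hk =>
  (Nat.lt_or_ge k 48640).elim (pow_ok_upto48640 k) fun h =>
    allFrom_spec _ _ _ powOK_48640 k h hk

theorem pow_ok_upto49664 : ∀ k < 49664, fixesAll CfsgLib.CosetEnum.ON.table k [(List.replicate 5 lw).flatten] = true := fun k hk =>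
  (Nat.lt_or_ge k 49152).elim (pow_ok_upto49152 k) fun h =>
    allFrom_spec _ _ _ powOK_49152 k h hk

theorem pow_ok_upto50176 : ∀ k < 50176, fixesAll CfsgLib.CosetEnum.ON.table k [(List.replicate 5 lw).flatten] = true := fun k hk =>
  (Nat.lt_or_ge k 49664).elim (pow_ok_upto49664 k) fun h =>
    allFrom_spec _ _ _ powOK_49664 k h hk

theorem pow_ok_upto50688 : ∀ k < 50688, fixesAll CfsgLib.CosetEnum.ON.table k [(List.replicate 5 lw).flatten] = true := fun k hk =>
  (Nat.lt_or_ge k 50176).elim (pow_ok_upto50176 k) fun h =>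
    allFrom_spec _ _ _ powOK_50176 k h hk

theorem pow_ok_upto51200 : ∀ k < 51200, fixesAll CfsgLib.CosetEnum.ON.table k [(List.replicate 5 lw).flatten] = true := fun k hk =>
  (Nat.lt_or_ge k 50688).elim (pow_ok_upto50688 k) fun h =>
    allFrom_spec _ _ _ powOK_50688 k h hk

theorem pow_ok_upto51712 : ∀ k < 51712, fixesAll CfsgLib.CosetEnum.ON.table k [(List.replicate 5 lw).flatten] = true := fun k hk =>
  (Nat.lt_or_ge k 51200).elim (pow_ok_upto51200 k) fun h =>
    allFrom_spec _ _ _ powOK_51200 k h hk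

theorem pow_ok_upto52224 : ∀ k < 52224, fixesAll CfsgLib.CosetEnum.ON.table k [(List.replicate 5 lw).flatten] = true := fun k hk =>
  (Nat.lt_or_ge k 51712).elim (pow_ok_upto51712 k) fun h =>
    allFrom_spec _ _ _ powOK_51712 k h hk

theorem pow_ok_upto52736 : ∀ k < 52736, fixesAll CfsgLib.CosetEnum.ON.table k [(List.replicate 5 lw).flatten] = true := fun k hk =>
  (Nat.lt_or_ge k 52224).elim (pow_ok_upto52224 k) fun h =>
    allFrom_spec _ _ _ powOK_52224 k h hk

theorem pow_ok_upto53248 : ∀ k < 53248, fixesAll CfsgLib.CosetEnum.ON.table k [(List.replicate 5 lw).flatten] = true := fun k hk =>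
  (Nat.lt_or_ge k 52736).elim (pow_ok_upto52736 k) fun h =>
    allFrom_spec _ _ _ powOK_52736 k h hk

theorem pow_ok_upto53760 : ∀ k < 53760, fixesAll CfsgLib.CosetEnum.ON.table k [(List.replicate 5 lw).flatten] = true := fun k hk =>
  (Nat.lt_or_ge k 53248).elim (pow_ok_upto53248 k) fun h =>
    allFrom_spec _ _ _ powOK_53248 k h hk

theorem pow_ok_upto54272 : ∀ k < 54272, fixesAll CfsgLib.CosetEnum.ON.table k [(List.replicate 5 lw).flatten] = true := fun k hk =>
  (Nat.lt_or_ge k 53760).elim (pow_ok_upto53760 k) fun h =>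
    allFrom_spec _ _ _ powOK_53760 k h hk

theorem pow_ok_upto54784 : ∀ k < 54784, fixesAll CfsgLib.CosetEnum.ON.table k [(List.replicate 5 lw).flatten] = true := fun k hk =>
  (Nat.lt_or_ge k 54272).elim (pow_ok_upto54272 k) fun h =>
    allFrom_spec _ _ _ powOK_54272 k h hk

theorem pow_ok_upto55296 : ∀ k < 55296, fixesAll CfsgLib.CosetEnum.ON.table k [(List.replicate 5 lw).flatten] = true := fun k hk =>
  (Nat.lt_or_ge k 54784).elim (pow_ok_upto54784 k) fun h =>
    allFrom_spec _ _ _ powOK_54784 k h hk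

theorem pow_ok_upto55808 : ∀ k < 55808, fixesAll CfsgLib.CosetEnum.ON.table k [(List.replicate 5 lw).flatten] = true := fun k hk =>
  (Nat.lt_or_ge k 55296).elim (pow_ok_upto55296 k) fun h =>
    allFrom_spec _ _ _ powOK_55296 k h hk

theorem pow_ok_upto56320 : ∀ k < 56320, fixesAll CfsgLib.CosetEnum.ON.table k [(List.replicate 5 lw).flatten] = true := fun k hk =>
  (Nat.lt_or_ge k 55808).elim (pow_ok_upto55808 k) fun h =>
    allFrom_spec _ _ _ powOK_55808 k h hk

theorem pow_ok_upto56832 : ∀ k < 56832, fixesAll CfsgLib.CosetEnum.ON.table k [(List.replicate 5 lw).flatten] = true := fun k hk =>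
  (Nat.lt_or_ge k 56320).elim (pow_ok_upto56320 k) fun h =>
    allFrom_spec _ _ _ powOK_56320 k h hk

theorem pow_ok_upto57344 : ∀ k < 57344, fixesAll CfsgLib.CosetEnum.ON.table k [(List.replicate 5 lw).flatten] = true := fun k hk =>
  (Nat.lt_or_ge k 56832).elim (pow_ok_upto56832 k) fun h =>
    allFrom_spec _ _ _ powOK_56832 k h hk

theorem pow_ok_upto57856 : ∀ k < 57856, fixesAll CfsgLib.CosetEnum.ON.table k [(List.replicate 5 lw).flatten] = true := fun k hk =>
  (Nat.lt_or_ge k 57344).elim (pow_ok_upto57344 k) fun h =>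
    allFrom_spec _ _ _ powOK_57344 k h hk

theorem pow_ok_upto58368 : ∀ k < 58368, fixesAll CfsgLib.CosetEnum.ON.table k [(List.replicate 5 lw).flatten] = true := fun k hk =>
  (Nat.lt_or_ge k 57856).elim (pow_ok_upto57856 k) fun h =>
    allFrom_spec _ _ _ powOK_57856 k h hk

theorem pow_ok_upto58880 : ∀ k < 58880, fixesAll CfsgLib.CosetEnum.ON.table k [(List.replicate 5 lw).flatten] = true := fun k hk =>
  (Nat.lt_or_ge k 58368).elim (pow_ok_upto58368 k) fun h =>
    allFrom_spec _ _ _ powOK_58368 k h hk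

theorem pow_ok_upto59392 : ∀ k < 59392, fixesAll CfsgLib.CosetEnum.ON.table k [(List.replicate 5 lw).flatten] = true := fun k hk =>
  (Nat.lt_or_ge k 58880).elim (pow_ok_upto58880 k) fun h =>
    allFrom_spec _ _ _ powOK_58880 k h hk

theorem pow_ok_upto59904 : ∀ k < 59904, fixesAll CfsgLib.CosetEnum.ON.table k [(List.replicate 5 lw).flatten] = true := fun k hk =>
  (Nat.lt_or_ge k 59392).elim (pow_ok_upto59392 k) fun h =>
    allFrom_spec _ _ _ powOK_59392 k h hk

theorem pow_ok_upto60416 : ∀ k < 60416, fixesAll CfsgLib.CosetEnum.ON.table k [(List.replicate 5 lw).flatten] = true := fun k hk =>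
  (Nat.lt_or_ge k 59904).elim (pow_ok_upto59904 k) fun h =>
    allFrom_spec _ _ _ powOK_59904 k h hk

theorem pow_ok_upto60928 : ∀ k < 60928, fixesAll CfsgLib.CosetEnum.ON.table k [(List.replicate 5 lw).flatten] = true := fun k hk =>
  (Nat.lt_or_ge k 60416).elim (pow_ok_upto60416 k) fun h =>
    allFrom_spec _ _ _ powOK_60416 k h hk

theorem pow_ok_upto61440 : ∀ k < 61440, fixesAll CfsgLib.CosetEnum.ON.table k [(List.replicate 5 lw).flatten] = true := fun k hk =>
  (Nat.lt_or_ge k 60928).elim (pow_ok_upto60928 k) fun h =>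
    allFrom_spec _ _ _ powOK_60928 k h hk

theorem pow_ok_upto61952 : ∀ k < 61952, fixesAll CfsgLib.CosetEnum.ON.table k [(List.replicate 5 lw).flatten] = true := fun k hk =>
  (Nat.lt_or_ge k 61440).elim (pow_ok_upto61440 k) fun h =>
    allFrom_spec _ _ _ powOK_61440 k h hk

theorem pow_ok_upto62464 : ∀ k < 62464, fixesAll CfsgLib.CosetEnum.ON.table k [(List.replicate 5 lw).flatten] = true := fun k hk =>
  (Nat.lt_or_ge k 61952).elim (pow_ok_upto61952 k) fun h =>
    allFrom_spec _ _ _ powOK_61952 k h hk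

theorem pow_ok_upto62976 : ∀ k < 62976, fixesAll CfsgLib.CosetEnum.ON.table k [(List.replicate 5 lw).flatten] = true := fun k hk =>
  (Nat.lt_or_ge k 62464).elim (pow_ok_upto62464 k) fun h =>
    allFrom_spec _ _ _ powOK_62464 k h hk

theorem pow_ok_upto63488 : ∀ k < 63488, fixesAll CfsgLib.CosetEnum.ON.table k [(List.replicate 5 lw).flatten] = true := fun k hk =>
  (Nat.lt_or_ge k 62976).elim (pow_ok_upto62976 k) fun h =>
    allFrom_spec _ _ _ powOK_62976 k h hk

theorem pow_ok_upto64000 : ∀ k < 64000, fixesAll CfsgLib.CosetEnum.ON.table k [(List.replicate 5 lw).flatten] = true := fun k hk =>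
  (Nat.lt_or_ge k 63488).elim (pow_ok_upto63488 k) fun h =>
    allFrom_spec _ _ _ powOK_63488 k h hk

theorem pow_ok_upto64512 : ∀ k < 64512, fixesAll CfsgLib.CosetEnum.ON.table k [(List.replicate 5 lw).flatten] = true := fun k hk =>
  (Nat.lt_or_ge k 64000).elim (pow_ok_upto64000 k) fun h =>
    allFrom_spec _ _ _ powOK_64000 k h hk

theorem pow_ok_upto65024 : ∀ k < 65024, fixesAll CfsgLib.CosetEnum.ON.table k [(List.replicate 5 lw).flatten] = true := fun k hk =>
  (Nat.lt_or_ge k 64512).elim (pow_ok_upto64512 k) fun h =>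
    allFrom_spec _ _ _ powOK_64512 k h hk

theorem pow_ok_upto65536 : ∀ k < 65536, fixesAll CfsgLib.CosetEnum.ON.table k [(List.replicate 5 lw).flatten] = true := fun k hk =>
  (Nat.lt_or_ge k 65024).elim (pow_ok_upto65024 k) fun h =>
    allFrom_spec _ _ _ powOK_65024 k h hk

theorem pow_ok_upto66048 : ∀ k < 66048, fixesAll CfsgLib.CosetEnum.ON.table k [(List.replicate 5 lw).flatten] = true := fun k hk =>
  (Nat.lt_or_ge k 65536).elim (pow_ok_upto65536 k) fun h =>
    allFrom_spec _ _ _ powOK_65536 k h hk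

theorem pow_ok_upto66560 : ∀ k < 66560, fixesAll CfsgLib.CosetEnum.ON.table k [(List.replicate 5 lw).flatten] = true := fun k hk =>
  (Nat.lt_or_ge k 66048).elim (pow_ok_upto66048 k) fun h =>
    allFrom_spec _ _ _ powOK_66048 k h hk

theorem pow_ok_upto67072 : ∀ k < 67072, fixesAll CfsgLib.CosetEnum.ON.table k [(List.replicate 5 lw).flatten] = true := fun k hk =>
  (Nat.lt_or_ge k 66560).elim (pow_ok_upto66560 k) fun h =>
    allFrom_spec _ _ _ powOK_66560 k h hk

theorem pow_ok_upto67584 : ∀ k < 67584, fixesAll CfsgLib.CosetEnum.ON.table k [(List.replicate 5 lw).flatten] = true := fun k hk =>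
  (Nat.lt_or_ge k 67072).elim (pow_ok_upto67072 k) fun h =>
    allFrom_spec _ _ _ powOK_67072 k h hk

theorem pow_ok_upto68096 : ∀ k < 68096, fixesAll CfsgLib.CosetEnum.ON.table k [(List.replicate 5 lw).flatten] = true := fun k hk =>
  (Nat.lt_or_ge k 67584).elim (pow_ok_upto67584 k) fun h =>
    allFrom_spec _ _ _ powOK_67584 k h hk

theorem pow_ok_upto68608 : ∀ k < 68608, fixesAll CfsgLib.CosetEnum.ON.table k [(List.replicate 5 lw).flatten] = true := fun k hk =>
  (Nat.lt_or_ge k 68096).elim (pow_ok_upto68096 k) fun h =>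
    allFrom_spec _ _ _ powOK_68096 k h hk

theorem pow_ok_upto69120 : ∀ k < 69120, fixesAll CfsgLib.CosetEnum.ON.table k [(List.replicate 5 lw).flatten] = true := fun k hk =>
  (Nat.lt_or_ge k 68608).elim (pow_ok_upto68608 k) fun h =>
    allFrom_spec _ _ _ powOK_68608 k h hk

theorem pow_ok_upto69632 : ∀ k < 69632, fixesAll CfsgLib.CosetEnum.ON.table k [(List.replicate 5 lw).flatten] = true := fun k hk =>
  (Nat.lt_or_ge k 69120).elim (pow_ok_upto69120 k) fun h =>
    allFrom_spec _ _ _ powOK_69120 k h hk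

theorem pow_ok_upto70144 : ∀ k < 70144, fixesAll CfsgLib.CosetEnum.ON.table k [(List.replicate 5 lw).flatten] = true := fun k hk =>
  (Nat.lt_or_ge k 69632).elim (pow_ok_upto69632 k) fun h =>
    allFrom_spec _ _ _ powOK_69632 k h hk

theorem pow_ok_upto70656 : ∀ k < 70656, fixesAll CfsgLib.CosetEnum.ON.table k [(List.replicate 5 lw).flatten] = true := fun k hk =>
  (Nat.lt_or_ge k 70144).elim (pow_ok_upto70144 k) fun h =>
    allFrom_spec _ _ _ powOK_70144 k h hk

theorem pow_ok_upto71168 : ∀ k < 71168, fixesAll CfsgLib.CosetEnum.ON.table k [(List.replicate 5 lw).flatten] = true := fun k hk =>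
  (Nat.lt_or_ge k 70656).elim (pow_ok_upto70656 k) fun h =>
    allFrom_spec _ _ _ powOK_70656 k h hk

theorem pow_ok_upto71680 : ∀ k < 71680, fixesAll CfsgLib.CosetEnum.ON.table k [(List.replicate 5 lw).flatten] = true := fun k hk =>
  (Nat.lt_or_ge k 71168).elim (pow_ok_upto71168 k) fun h =>
    allFrom_spec _ _ _ powOK_71168 k h hk

theorem pow_ok_upto72192 : ∀ k < 72192, fixesAll CfsgLib.CosetEnum.ON.table k [(List.replicate 5 lw).flatten] = true := fun k hk =>
  (Nat.lt_or_ge k 71680).elim (pow_ok_upto71680 k) fun h =>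
    allFrom_spec _ _ _ powOK_71680 k h hk

theorem pow_ok_upto72704 : ∀ k < 72704, fixesAll CfsgLib.CosetEnum.ON.table k [(List.replicate 5 lw).flatten] = true := fun k hk =>
  (Nat.lt_or_ge k 72192).elim (pow_ok_upto72192 k) fun h =>
    allFrom_spec _ _ _ powOK_72192 k h hk

theorem pow_ok_upto73216 : ∀ k < 73216, fixesAll CfsgLib.CosetEnum.ON.table k [(List.replicate 5 lw).flatten] = true := fun k hk =>
  (Nat.lt_or_ge k 72704).elim (pow_ok_upto72704 k) fun h =>
    allFrom_spec _ _ _ powOK_72704 k h hk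

theorem pow_ok_upto73728 : ∀ k < 73728, fixesAll CfsgLib.CosetEnum.ON.table k [(List.replicate 5 lw).flatten] = true := fun k hk =>
  (Nat.lt_or_ge k 73216).elim (pow_ok_upto73216 k) fun h =>
    allFrom_spec _ _ _ powOK_73216 k h hk

theorem pow_ok_upto74240 : ∀ k < 74240, fixesAll CfsgLib.CosetEnum.ON.table k [(List.replicate 5 lw).flatten] = true := fun k hk =>
  (Nat.lt_or_ge k 73728).elim (pow_ok_upto73728 k) fun h =>
    allFrom_spec _ _ _ powOK_73728 k h hk

theorem pow_ok_upto74752 : ∀ k < 74752, fixesAll CfsgLib.CosetEnum.ON.table k [(List.replicate 5 lw).flatten] = true := fun k hk =>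
  (Nat.lt_or_ge k 74240).elim (pow_ok_upto74240 k) fun h =>
    allFrom_spec _ _ _ powOK_74240 k h hk

theorem pow_ok_upto75264 : ∀ k < 75264, fixesAll CfsgLib.CosetEnum.ON.table k [(List.replicate 5 lw).flatten] = true := fun k hk =>
  (Nat.lt_or_ge k 74752).elim (pow_ok_upto74752 k) fun h =>
    allFrom_spec _ _ _ powOK_74752 k h hk

theorem pow_ok_upto75776 : ∀ k < 75776, fixesAll CfsgLib.CosetEnum.ON.table k [(List.replicate 5 lw).flatten] = true := fun k hk =>
  (Nat.lt_or_ge k 75264).elim (pow_ok_upto75264 k) fun h =>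
    allFrom_spec _ _ _ powOK_75264 k h hk

theorem pow_ok_upto76288 : ∀ k < 76288, fixesAll CfsgLib.CosetEnum.ON.table k [(List.replicate 5 lw).flatten] = true := fun k hk =>
  (Nat.lt_or_ge k 75776).elim (pow_ok_upto75776 k) fun h =>
    allFrom_spec _ _ _ powOK_75776 k h hk

theorem pow_ok_upto76800 : ∀ k < 76800, fixesAll CfsgLib.CosetEnum.ON.table k [(List.replicate 5 lw).flatten] = true := fun k hk =>
  (Nat.lt_or_ge k 76288).elim (pow_ok_upto76288 k) fun h =>
    allFrom_spec _ _ _ powOK_76288 k h hk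

theorem pow_ok_upto77312 : ∀ k < 77312, fixesAll CfsgLib.CosetEnum.ON.table k [(List.replicate 5 lw).flatten] = true := fun k hk =>
  (Nat.lt_or_ge k 76800).elim (pow_ok_upto76800 k) fun h =>
    allFrom_spec _ _ _ powOK_76800 k h hk

theorem pow_ok_upto77824 : ∀ k < 77824, fixesAll CfsgLib.CosetEnum.ON.table k [(List.replicate 5 lw).flatten] = true := fun k hk =>
  (Nat.lt_or_ge k 77312).elim (pow_ok_upto77312 k) fun h =>
    allFrom_spec _ _ _ powOK_77312 k h hk

theorem pow_ok_upto78336 : ∀ k < 78336, fixesAll CfsgLib.CosetEnum.ON.table k [(List.replicate 5 lw).flatten] = true := fun k hk =>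
  (Nat.lt_or_ge k 77824).elim (pow_ok_upto77824 k) fun h =>
    allFrom_spec _ _ _ powOK_77824 k h hk

theorem pow_ok_upto78848 : ∀ k < 78848, fixesAll CfsgLib.CosetEnum.ON.table k [(List.replicate 5 lw).flatten] = true := fun k hk =>
  (Nat.lt_or_ge k 78336).elim (pow_ok_upto78336 k) fun h =>
    allFrom_spec _ _ _ powOK_78336 k h hk

theorem pow_ok_upto79360 : ∀ k < 79360, fixesAll CfsgLib.CosetEnum.ON.table k [(List.replicate 5 lw).flatten] = true := fun k hk =>
  (Nat.lt_or_ge k 78848).elim (pow_ok_upto78848 k) fun h =>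
    allFrom_spec _ _ _ powOK_78848 k h hk

theorem pow_ok_upto79872 : ∀ k < 79872, fixesAll CfsgLib.CosetEnum.ON.table k [(List.replicate 5 lw).flatten] = true := fun k hk =>
  (Nat.lt_or_ge k 79360).elim (pow_ok_upto79360 k) fun h =>
    allFrom_spec _ _ _ powOK_79360 k h hk

theorem pow_ok_upto80384 : ∀ k < 80384, fixesAll CfsgLib.CosetEnum.ON.table k [(List.replicate 5 lw).flatten] = true := fun k hk =>
  (Nat.lt_or_ge k 79872).elim (pow_ok_upto79872 k) fun h =>
    allFrom_spec _ _ _ powOK_79872 k h hk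

theorem pow_ok_upto80896 : ∀ k < 80896, fixesAll CfsgLib.CosetEnum.ON.table k [(List.replicate 5 lw).flatten] = true := fun k hk =>
  (Nat.lt_or_ge k 80384).elim (pow_ok_upto80384 k) fun h =>
    allFrom_spec _ _ _ powOK_80384 k h hk

theorem pow_ok_upto81408 : ∀ k < 81408, fixesAll CfsgLib.CosetEnum.ON.table k [(List.replicate 5 lw).flatten] = true := fun k hk =>
  (Nat.lt_or_ge k 80896).elim (pow_ok_upto80896 k) fun h =>
    allFrom_spec _ _ _ powOK_80896 k h hk

theorem pow_ok_upto81920 : ∀ k < 81920, fixesAll CfsgLib.CosetEnum.ON.table k [(List.replicate 5 lw).flatten] = true := fun k hk =>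
  (Nat.lt_or_ge k 81408).elim (pow_ok_upto81408 k) fun h =>
    allFrom_spec _ _ _ powOK_81408 k h hk

theorem pow_ok_upto82432 : ∀ k < 82432, fixesAll CfsgLib.CosetEnum.ON.table k [(List.replicate 5 lw).flatten] = true := fun k hk =>
  (Nat.lt_or_ge k 81920).elim (pow_ok_upto81920 k) fun h =>
    allFrom_spec _ _ _ powOK_81920 k h hk

theorem pow_ok_upto82944 : ∀ k < 82944, fixesAll CfsgLib.CosetEnum.ON.table k [(List.replicate 5 lw).flatten] = true := fun k hk =>
  (Nat.lt_or_ge k 82432).elim (pow_ok_upto82432 k) fun h =>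
    allFrom_spec _ _ _ powOK_82432 k h hk

theorem pow_ok_upto83456 : ∀ k < 83456, fixesAll CfsgLib.CosetEnum.ON.table k [(List.replicate 5 lw).flatten] = true := fun k hk =>
  (Nat.lt_or_ge k 82944).elim (pow_ok_upto82944 k) fun h =>
    allFrom_spec _ _ _ powOK_82944 k h hk

theorem pow_ok_upto83968 : ∀ k < 83968, fixesAll CfsgLib.CosetEnum.ON.table k [(List.replicate 5 lw).flatten] = true := fun k hk =>
  (Nat.lt_or_ge k 83456).elim (pow_ok_upto83456 k) fun h =>
    allFrom_spec _ _ _ powOK_83456 k h hk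

theorem pow_ok_upto84480 : ∀ k < 84480, fixesAll CfsgLib.CosetEnum.ON.table k [(List.replicate 5 lw).flatten] = true := fun k hk =>
  (Nat.lt_or_ge k 83968).elim (pow_ok_upto83968 k) fun h =>
    allFrom_spec _ _ _ powOK_83968 k h hk

theorem pow_ok_upto84992 : ∀ k < 84992, fixesAll CfsgLib.CosetEnum.ON.table k [(List.replicate 5 lw).flatten] = true := fun k hk =>
  (Nat.lt_or_ge k 84480).elim (pow_ok_upto84480 k) fun h =>
    allFrom_spec _ _ _ powOK_84480 k h hk

theorem pow_ok_upto85504 : ∀ k < 85504, fixesAll CfsgLib.CosetEnum.ON.table k [(List.replicate 5 lw).flatten] = true := fun k hk =>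
  (Nat.lt_or_ge k 84992).elim (pow_ok_upto84992 k) fun h =>
    allFrom_spec _ _ _ powOK_84992 k h hk

theorem pow_ok_upto86016 : ∀ k < 86016, fixesAll CfsgLib.CosetEnum.ON.table k [(List.replicate 5 lw).flatten] = true := fun k hk =>
  (Nat.lt_or_ge k 85504).elim (pow_ok_upto85504 k) fun h =>
    allFrom_spec _ _ _ powOK_85504 k h hk

theorem pow_ok_upto86528 : ∀ k < 86528, fixesAll CfsgLib.CosetEnum.ON.table k [(List.replicate 5 lw).flatten] = true := fun k hk =>
  (Nat.lt_or_ge k 86016).elim (pow_ok_upto86016 k) fun h =>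
    allFrom_spec _ _ _ powOK_86016 k h hk

theorem pow_ok_upto87040 : ∀ k < 87040, fixesAll CfsgLib.CosetEnum.ON.table k [(List.replicate 5 lw).flatten] = true := fun k hk =>
  (Nat.lt_or_ge k 86528).elim (pow_ok_upto86528 k) fun h =>
    allFrom_spec _ _ _ powOK_86528 k h hk

theorem pow_ok_upto87552 : ∀ k < 87552, fixesAll CfsgLib.CosetEnum.ON.table k [(List.replicate 5 lw).flatten] = true := fun k hk =>
  (Nat.lt_or_ge k 87040).elim (pow_ok_upto87040 k) fun h =>
    allFrom_spec _ _ _ powOK_87040 k h hk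

theorem pow_ok_upto88064 : ∀ k < 88064, fixesAll CfsgLib.CosetEnum.ON.table k [(List.replicate 5 lw).flatten] = true := fun k hk =>
  (Nat.lt_or_ge k 87552).elim (pow_ok_upto87552 k) fun h =>
    allFrom_spec _ _ _ powOK_87552 k h hk

theorem pow_ok_upto88576 : ∀ k < 88576, fixesAll CfsgLib.CosetEnum.ON.table k [(List.replicate 5 lw).flatten] = true := fun k hk =>
  (Nat.lt_or_ge k 88064).elim (pow_ok_upto88064 k) fun h =>
    allFrom_spec _ _ _ powOK_88064 k h hk

theorem pow_ok_upto89088 : ∀ k < 89088, fixesAll CfsgLib.CosetEnum.ON.table k [(List.replicate 5 lw).flatten] = true := fun k hk =>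
  (Nat.lt_or_ge k 88576).elim (pow_ok_upto88576 k) fun h =>
    allFrom_spec _ _ _ powOK_88576 k h hk

theorem pow_ok_upto89600 : ∀ k < 89600, fixesAll CfsgLib.CosetEnum.ON.table k [(List.replicate 5 lw).flatten] = true := fun k hk =>
  (Nat.lt_or_ge k 89088).elim (pow_ok_upto89088 k) fun h =>
    allFrom_spec _ _ _ powOK_89088 k h hk

theorem pow_ok_upto90112 : ∀ k < 90112, fixesAll CfsgLib.CosetEnum.ON.table k [(List.replicate 5 lw).flatten] = true := fun k hk =>
  (Nat.lt_or_ge k 89600).elim (pow_ok_upto89600 k) fun h =>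
    allFrom_spec _ _ _ powOK_89600 k h hk

theorem pow_ok_upto90624 : ∀ k < 90624, fixesAll CfsgLib.CosetEnum.ON.table k [(List.replicate 5 lw).flatten] = true := fun k hk =>
  (Nat.lt_or_ge k 90112).elim (pow_ok_upto90112 k) fun h =>
    allFrom_spec _ _ _ powOK_90112 k h hk

theorem pow_ok_upto91136 : ∀ k < 91136, fixesAll CfsgLib.CosetEnum.ON.table k [(List.replicate 5 lw).flatten] = true := fun k hk =>
  (Nat.lt_or_ge k 90624).elim (pow_ok_upto90624 k) fun h =>
    allFrom_spec _ _ _ powOK_90624 k h hk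

theorem pow_ok_upto91648 : ∀ k < 91648, fixesAll CfsgLib.CosetEnum.ON.table k [(List.replicate 5 lw).flatten] = true := fun k hk =>
  (Nat.lt_or_ge k 91136).elim (pow_ok_upto91136 k) fun h =>
    allFrom_spec _ _ _ powOK_91136 k h hk

theorem pow_ok_upto92160 : ∀ k < 92160, fixesAll CfsgLib.CosetEnum.ON.table k [(List.replicate 5 lw).flatten] = true := fun k hk =>
  (Nat.lt_or_ge k 91648).elim (pow_ok_upto91648 k) fun h =>
    allFrom_spec _ _ _ powOK_91648 k h hk

theorem pow_ok_upto92672 : ∀ k < 92672, fixesAll CfsgLib.CosetEnum.ON.table k [(List.replicate 5 lw).flatten] = true := fun k hk =>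
  (Nat.lt_or_ge k 92160).elim (pow_ok_upto92160 k) fun h =>
    allFrom_spec _ _ _ powOK_92160 k h hk

theorem pow_ok_upto93184 : ∀ k < 93184, fixesAll CfsgLib.CosetEnum.ON.table k [(List.replicate 5 lw).flatten] = true := fun k hk =>
  (Nat.lt_or_ge k 92672).elim (pow_ok_upto92672 k) fun h =>
    allFrom_spec _ _ _ powOK_92672 k h hk

theorem pow_ok_upto93696 : ∀ k < 93696, fixesAll CfsgLib.CosetEnum.ON.table k [(List.replicate 5 lw).flatten] = true := fun k hk =>
  (Nat.lt_or_ge k 93184).elim (pow_ok_upto93184 k) fun h =>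
    allFrom_spec _ _ _ powOK_93184 k h hk

theorem pow_ok_upto94208 : ∀ k < 94208, fixesAll CfsgLib.CosetEnum.ON.table k [(List.replicate 5 lw).flatten] = true := fun k hk =>
  (Nat.lt_or_ge k 93696).elim (pow_ok_upto93696 k) fun h =>
    allFrom_spec _ _ _ powOK_93696 k h hk

theorem pow_ok_upto94720 : ∀ k < 94720, fixesAll CfsgLib.CosetEnum.ON.table k [(List.replicate 5 lw).flatten] = true := fun k hk =>
  (Nat.lt_or_ge k 94208).elim (pow_ok_upto94208 k) fun h =>
    allFrom_spec _ _ _ powOK_94208 k h hk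

theorem pow_ok_upto95232 : ∀ k < 95232, fixesAll CfsgLib.CosetEnum.ON.table k [(List.replicate 5 lw).flatten] = true := fun k hk =>
  (Nat.lt_or_ge k 94720).elim (pow_ok_upto94720 k) fun h =>
    allFrom_spec _ _ _ powOK_94720 k h hk

theorem pow_ok_upto95744 : ∀ k < 95744, fixesAll CfsgLib.CosetEnum.ON.table k [(List.replicate 5 lw).flatten] = true := fun k hk =>
  (Nat.lt_or_ge k 95232).elim (pow_ok_upto95232 k) fun h =>
    allFrom_spec _ _ _ powOK_95232 k h hk

theorem pow_ok_upto96256 : ∀ k < 96256, fixesAll CfsgLib.CosetEnum.ON.table k [(List.replicate 5 lw).flatten] = true := fun k hk =>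
  (Nat.lt_or_ge k 95744).elim (pow_ok_upto95744 k) fun h =>
    allFrom_spec _ _ _ powOK_95744 k h hk

theorem pow_ok_upto96768 : ∀ k < 96768, fixesAll CfsgLib.CosetEnum.ON.table k [(List.replicate 5 lw).flatten] = true := fun k hk =>
  (Nat.lt_or_ge k 96256).elim (pow_ok_upto96256 k) fun h =>
    allFrom_spec _ _ _ powOK_96256 k h hk

theorem pow_ok_upto97280 : ∀ k < 97280, fixesAll CfsgLib.CosetEnum.ON.table k [(List.replicate 5 lw).flatten] = true := fun k hk =>
  (Nat.lt_or_ge k 96768).elim (pow_ok_upto96768 k) fun h =>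
    allFrom_spec _ _ _ powOK_96768 k h hk

theorem pow_ok_upto97792 : ∀ k < 97792, fixesAll CfsgLib.CosetEnum.ON.table k [(List.replicate 5 lw).flatten] = true := fun k hk =>
  (Nat.lt_or_ge k 97280).elim (pow_ok_upto97280 k) fun h =>
    allFrom_spec _ _ _ powOK_97280 k h hk

theorem pow_ok_upto98304 : ∀ k < 98304, fixesAll CfsgLib.CosetEnum.ON.table k [(List.replicate 5 lw).flatten] = true := fun k hk =>
  (Nat.lt_or_ge k 97792).elim (pow_ok_upto97792 k) fun h =>
    allFrom_spec _ _ _ powOK_97792 k h hk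

theorem pow_ok_upto98816 : ∀ k < 98816, fixesAll CfsgLib.CosetEnum.ON.table k [(List.replicate 5 lw).flatten] = true := fun k hk =>
  (Nat.lt_or_ge k 98304).elim (pow_ok_upto98304 k) fun h =>
    allFrom_spec _ _ _ powOK_98304 k h hk

theorem pow_ok_upto99328 : ∀ k < 99328, fixesAll CfsgLib.CosetEnum.ON.table k [(List.replicate 5 lw).flatten] = true := fun k hk =>
  (Nat.lt_or_ge k 98816).elim (pow_ok_upto98816 k) fun h =>
    allFrom_spec _ _ _ powOK_98816 k h hk

theorem pow_ok_upto99840 : ∀ k < 99840, fixesAll CfsgLib.CosetEnum.ON.table k [(List.replicate 5 lw).flatten] = true := fun k hk =>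
  (Nat.lt_or_ge k 99328).elim (pow_ok_upto99328 k) fun h =>
    allFrom_spec _ _ _ powOK_99328 k h hk

theorem pow_ok_upto100352 : ∀ k < 100352, fixesAll CfsgLib.CosetEnum.ON.table k [(List.replicate 5 lw).flatten] = true := fun k hk =>
  (Nat.lt_or_ge k 99840).elim (pow_ok_upto99840 k) fun h =>
    allFrom_spec _ _ _ powOK_99840 k h hk

theorem pow_ok_upto100864 : ∀ k < 100864, fixesAll CfsgLib.CosetEnum.ON.table k [(List.replicate 5 lw).flatten] = true := fun k hk =>
  (Nat.lt_or_ge k 100352).elim (pow_ok_upto100352 k) fun h =>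
    allFrom_spec _ _ _ powOK_100352 k h hk

theorem pow_ok_upto101376 : ∀ k < 101376, fixesAll CfsgLib.CosetEnum.ON.table k [(List.replicate 5 lw).flatten] = true := fun k hk =>
  (Nat.lt_or_ge k 100864).elim (pow_ok_upto100864 k) fun h =>
    allFrom_spec _ _ _ powOK_100864 k h hk

theorem pow_ok_upto101888 : ∀ k < 101888, fixesAll CfsgLib.CosetEnum.ON.table k [(List.replicate 5 lw).flatten] = true := fun k hk =>
  (Nat.lt_or_ge k 101376).elim (pow_ok_upto101376 k) fun h =>
    allFrom_spec _ _ _ powOK_101376 k h hk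

theorem pow_ok_upto102400 : ∀ k < 102400, fixesAll CfsgLib.CosetEnum.ON.table k [(List.replicate 5 lw).flatten] = true := fun k hk =>
  (Nat.lt_or_ge k 101888).elim (pow_ok_upto101888 k) fun h =>
    allFrom_spec _ _ _ powOK_101888 k h hk

theorem pow_ok_upto102912 : ∀ k < 102912, fixesAll CfsgLib.CosetEnum.ON.table k [(List.replicate 5 lw).flatten] = true := fun k hk =>
  (Nat.lt_or_ge k 102400).elim (pow_ok_upto102400 k) fun h =>
    allFrom_spec _ _ _ powOK_102400 k h hk

theorem pow_ok_upto103424 : ∀ k < 103424, fixesAll CfsgLib.CosetEnum.ON.table k [(List.replicate 5 lw).flatten] = true := fun k hk =>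
  (Nat.lt_or_ge k 102912).elim (pow_ok_upto102912 k) fun h =>
    allFrom_spec _ _ _ powOK_102912 k h hk

theorem pow_ok_upto103936 : ∀ k < 103936, fixesAll CfsgLib.CosetEnum.ON.table k [(List.replicate 5 lw).flatten] = true := fun k hk =>
  (Nat.lt_or_ge k 103424).elim (pow_ok_upto103424 k) fun h =>
    allFrom_spec _ _ _ powOK_103424 k h hk

theorem pow_ok_upto104448 : ∀ k < 104448, fixesAll CfsgLib.CosetEnum.ON.table k [(List.replicate 5 lw).flatten] = true := fun k hk =>
  (Nat.lt_or_ge k 103936).elim (pow_ok_upto103936 k) fun h =>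
    allFrom_spec _ _ _ powOK_103936 k h hk

theorem pow_ok_upto104960 : ∀ k < 104960, fixesAll CfsgLib.CosetEnum.ON.table k [(List.replicate 5 lw).flatten] = true := fun k hk =>
  (Nat.lt_or_ge k 104448).elim (pow_ok_upto104448 k) fun h =>
    allFrom_spec _ _ _ powOK_104448 k h hk

theorem pow_ok_upto105472 : ∀ k < 105472, fixesAll CfsgLib.CosetEnum.ON.table k [(List.replicate 5 lw).flatten] = true := fun k hk =>
  (Nat.lt_or_ge k 104960).elim (pow_ok_upto104960 k) fun h =>
    allFrom_spec _ _ _ powOK_104960 k h hk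

theorem pow_ok_upto105984 : ∀ k < 105984, fixesAll CfsgLib.CosetEnum.ON.table k [(List.replicate 5 lw).flatten] = true := fun k hk =>
  (Nat.lt_or_ge k 105472).elim (pow_ok_upto105472 k) fun h =>
    allFrom_spec _ _ _ powOK_105472 k h hk

theorem pow_ok_upto106496 : ∀ k < 106496, fixesAll CfsgLib.CosetEnum.ON.table k [(List.replicate 5 lw).flatten] = true := fun k hk =>
  (Nat.lt_or_ge k 105984).elim (pow_ok_upto105984 k) fun h =>
    allFrom_spec _ _ _ powOK_105984 k h hk

theorem pow_ok_upto107008 : ∀ k < 107008, fixesAll CfsgLib.CosetEnum.ON.table k [(List.replicate 5 lw).flatten] = true := fun k hk =>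
  (Nat.lt_or_ge k 106496).elim (pow_ok_upto106496 k) fun h =>
    allFrom_spec _ _ _ powOK_106496 k h hk

theorem pow_ok_upto107520 : ∀ k < 107520, fixesAll CfsgLib.CosetEnum.ON.table k [(List.replicate 5 lw).flatten] = true := fun k hk =>
  (Nat.lt_or_ge k 107008).elim (pow_ok_upto107008 k) fun h =>
    allFrom_spec _ _ _ powOK_107008 k h hk

theorem pow_ok_upto108032 : ∀ k < 108032, fixesAll CfsgLib.CosetEnum.ON.table k [(List.replicate 5 lw).flatten] = true := fun k hk =>
  (Nat.lt_or_ge k 107520).elim (pow_ok_upto107520 k) fun h =>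
    allFrom_spec _ _ _ powOK_107520 k h hk

theorem pow_ok_upto108544 : ∀ k < 108544, fixesAll CfsgLib.CosetEnum.ON.table k [(List.replicate 5 lw).flatten] = true := fun k hk =>
  (Nat.lt_or_ge k 108032).elim (pow_ok_upto108032 k) fun h =>
    allFrom_spec _ _ _ powOK_108032 k h hk

theorem pow_ok_upto109056 : ∀ k < 109056, fixesAll CfsgLib.CosetEnum.ON.table k [(List.replicate 5 lw).flatten] = true := fun k hk =>
  (Nat.lt_or_ge k 108544).elim (pow_ok_upto108544 k) fun h =>
    allFrom_spec _ _ _ powOK_108544 k h hk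

theorem pow_ok_upto109568 : ∀ k < 109568, fixesAll CfsgLib.CosetEnum.ON.table k [(List.replicate 5 lw).flatten] = true := fun k hk =>
  (Nat.lt_or_ge k 109056).elim (pow_ok_upto109056 k) fun h =>
    allFrom_spec _ _ _ powOK_109056 k h hk

theorem pow_ok_upto110080 : ∀ k < 110080, fixesAll CfsgLib.CosetEnum.ON.table k [(List.replicate 5 lw).flatten] = true := fun k hk =>
  (Nat.lt_or_ge k 109568).elim (pow_ok_upto109568 k) fun h =>
    allFrom_spec _ _ _ powOK_109568 k h hk

theorem pow_ok_upto110592 : ∀ k < 110592, fixesAll CfsgLib.CosetEnum.ON.table k [(List.replicate 5 lw).flatten] = true := fun k hk =>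
  (Nat.lt_or_ge k 110080).elim (pow_ok_upto110080 k) fun h =>
    allFrom_spec _ _ _ powOK_110080 k h hk

theorem pow_ok_upto111104 : ∀ k < 111104, fixesAll CfsgLib.CosetEnum.ON.table k [(List.replicate 5 lw).flatten] = true := fun k hk =>
  (Nat.lt_or_ge k 110592).elim (pow_ok_upto110592 k) fun h =>
    allFrom_spec _ _ _ powOK_110592 k h hk

theorem pow_ok_upto111616 : ∀ k < 111616, fixesAll CfsgLib.CosetEnum.ON.table k [(List.replicate 5 lw).flatten] = true := fun k hk =>
  (Nat.lt_or_ge k 111104).elim (pow_ok_upto111104 k) fun h =>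
    allFrom_spec _ _ _ powOK_111104 k h hk

theorem pow_ok_upto112128 : ∀ k < 112128, fixesAll CfsgLib.CosetEnum.ON.table k [(List.replicate 5 lw).flatten] = true := fun k hk =>
  (Nat.lt_or_ge k 111616).elim (pow_ok_upto111616 k) fun h =>
    allFrom_spec _ _ _ powOK_111616 k h hk

theorem pow_ok_upto112640 : ∀ k < 112640, fixesAll CfsgLib.CosetEnum.ON.table k [(List.replicate 5 lw).flatten] = true := fun k hk =>
  (Nat.lt_or_ge k 112128).elim (pow_ok_upto112128 k) fun h =>
    allFrom_spec _ _ _ powOK_112128 k h hk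

theorem pow_ok_upto113152 : ∀ k < 113152, fixesAll CfsgLib.CosetEnum.ON.table k [(List.replicate 5 lw).flatten] = true := fun k hk =>
  (Nat.lt_or_ge k 112640).elim (pow_ok_upto112640 k) fun h =>
    allFrom_spec _ _ _ powOK_112640 k h hk

theorem pow_ok_upto113664 : ∀ k < 113664, fixesAll CfsgLib.CosetEnum.ON.table k [(List.replicate 5 lw).flatten] = true := fun k hk =>
  (Nat.lt_or_ge k 113152).elim (pow_ok_upto113152 k) fun h =>
    allFrom_spec _ _ _ powOK_113152 k h hk

theorem pow_ok_upto114176 : ∀ k < 114176, fixesAll CfsgLib.CosetEnum.ON.table k [(List.replicate 5 lw).flatten] = true := fun k hk =>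
  (Nat.lt_or_ge k 113664).elim (pow_ok_upto113664 k) fun h =>
    allFrom_spec _ _ _ powOK_113664 k h hk

theorem pow_ok_upto114688 : ∀ k < 114688, fixesAll CfsgLib.CosetEnum.ON.table k [(List.replicate 5 lw).flatten] = true := fun k hk =>
  (Nat.lt_or_ge k 114176).elim (pow_ok_upto114176 k) fun h =>
    allFrom_spec _ _ _ powOK_114176 k h hk

theorem pow_ok_upto115200 : ∀ k < 115200, fixesAll CfsgLib.CosetEnum.ON.table k [(List.replicate 5 lw).flatten] = true := fun k hk =>
  (Nat.lt_or_ge k 114688).elim (pow_ok_upto114688 k) fun h =>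
    allFrom_spec _ _ _ powOK_114688 k h hk

theorem pow_ok_upto115712 : ∀ k < 115712, fixesAll CfsgLib.CosetEnum.ON.table k [(List.replicate 5 lw).flatten] = true := fun k hk =>
  (Nat.lt_or_ge k 115200).elim (pow_ok_upto115200 k) fun h =>
    allFrom_spec _ _ _ powOK_115200 k h hk

theorem pow_ok_upto116224 : ∀ k < 116224, fixesAll CfsgLib.CosetEnum.ON.table k [(List.replicate 5 lw).flatten] = true := fun k hk =>
  (Nat.lt_or_ge k 115712).elim (pow_ok_upto115712 k) fun h =>
    allFrom_spec _ _ _ powOK_115712 k h hk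

theorem pow_ok_upto116736 : ∀ k < 116736, fixesAll CfsgLib.CosetEnum.ON.table k [(List.replicate 5 lw).flatten] = true := fun k hk =>
  (Nat.lt_or_ge k 116224).elim (pow_ok_upto116224 k) fun h =>
    allFrom_spec _ _ _ powOK_116224 k h hk

theorem pow_ok_upto117248 : ∀ k < 117248, fixesAll CfsgLib.CosetEnum.ON.table k [(List.replicate 5 lw).flatten] = true := fun k hk =>
  (Nat.lt_or_ge k 116736).elim (pow_ok_upto116736 k) fun h =>
    allFrom_spec _ _ _ powOK_116736 k h hk

theorem pow_ok_upto117760 : ∀ k < 117760, fixesAll CfsgLib.CosetEnum.ON.table k [(List.replicate 5 lw).flatten] = true := fun k hk =>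
  (Nat.lt_or_ge k 117248).elim (pow_ok_upto117248 k) fun h =>
    allFrom_spec _ _ _ powOK_117248 k h hk

theorem pow_ok_upto118272 : ∀ k < 118272, fixesAll CfsgLib.CosetEnum.ON.table k [(List.replicate 5 lw).flatten] = true := fun k hk =>
  (Nat.lt_or_ge k 117760).elim (pow_ok_upto117760 k) fun h =>
    allFrom_spec _ _ _ powOK_117760 k h hk

theorem pow_ok_upto118784 : ∀ k < 118784, fixesAll CfsgLib.CosetEnum.ON.table k [(List.replicate 5 lw).flatten] = true := fun k hk =>
  (Nat.lt_or_ge k 118272).elim (pow_ok_upto118272 k) fun h =>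
    allFrom_spec _ _ _ powOK_118272 k h hk

theorem pow_ok_upto119296 : ∀ k < 119296, fixesAll CfsgLib.CosetEnum.ON.table k [(List.replicate 5 lw).flatten] = true := fun k hk =>
  (Nat.lt_or_ge k 118784).elim (pow_ok_upto118784 k) fun h =>
    allFrom_spec _ _ _ powOK_118784 k h hk

theorem pow_ok_upto119808 : ∀ k < 119808, fixesAll CfsgLib.CosetEnum.ON.table k [(List.replicate 5 lw).flatten] = true := fun k hk =>
  (Nat.lt_or_ge k 119296).elim (pow_ok_upto119296 k) fun h =>
    allFrom_spec _ _ _ powOK_119296 k h hk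

theorem pow_ok_upto120320 : ∀ k < 120320, fixesAll CfsgLib.CosetEnum.ON.table k [(List.replicate 5 lw).flatten] = true := fun k hk =>
  (Nat.lt_or_ge k 119808).elim (pow_ok_upto119808 k) fun h =>
    allFrom_spec _ _ _ powOK_119808 k h hk

theorem pow_ok_upto120832 : ∀ k < 120832, fixesAll CfsgLib.CosetEnum.ON.table k [(List.replicate 5 lw).flatten] = true := fun k hk =>
  (Nat.lt_or_ge k 120320).elim (pow_ok_upto120320 k) fun h =>
    allFrom_spec _ _ _ powOK_120320 k h hk

theorem pow_ok_upto121344 : ∀ k < 121344, fixesAll CfsgLib.CosetEnum.ON.table k [(List.replicate 5 lw).flatten] = true := fun k hk =>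
  (Nat.lt_or_ge k 120832).elim (pow_ok_upto120832 k) fun h =>
    allFrom_spec _ _ _ powOK_120832 k h hk

theorem pow_ok_upto121856 : ∀ k < 121856, fixesAll CfsgLib.CosetEnum.ON.table k [(List.replicate 5 lw).flatten] = true := fun k hk =>
  (Nat.lt_or_ge k 121344).elim (pow_ok_upto121344 k) fun h =>
    allFrom_spec _ _ _ powOK_121344 k h hk

theorem pow_ok_upto122368 : ∀ k < 122368, fixesAll CfsgLib.CosetEnum.ON.table k [(List.replicate 5 lw).flatten] = true := fun k hk =>
  (Nat.lt_or_ge k 121856).elim (pow_ok_upto121856 k) fun h =>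
    allFrom_spec _ _ _ powOK_121856 k h hk

theorem pow_ok_upto122760 : ∀ k < 122760, fixesAll CfsgLib.CosetEnum.ON.table k [(List.replicate 5 lw).flatten] = true := fun k hk =>
  (Nat.lt_or_ge k 122368).elim (pow_ok_upto122368 k) fun h =>
    allFrom_spec _ _ _ powOK_122368 k h hk

theorem pow_ok : ∀ k < 122760, fixesAll CfsgLib.CosetEnum.ON.table k [(List.replicate 5 lw).flatten] = true := pow_ok_upto122760

theorem isSimple : IsSimpleGroup Cfsg.Spor.ON := by
  haveI : Fact (5 : ℕ).Prime := ⟨by norm_num⟩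
  haveI : Finite Cfsg.Spor.ON := finite
  haveI : Nontrivial Cfsg.Spor.ON := Finite.one_lt_card_iff_nontrivial.mp (by rw [card_group]; norm_num)
  refine isSimple_of_maximal H maximal.1 maximal.2 5 (by rw [index_H]; norm_num) (by rw [card_group]; norm_num) _
    (orderOf_word CfsgLib.CosetEnum.ON.table 18364758542614016535 ip_ok row_ok π g hinv hπ injective 5 lw (by decide) 0 (by omega) (by decide +kernel) pow_ok) ?_
  intro N hN hw
  refine normal_eq_top_of_collapse g lw N hw fun h1 => ?_
  obtain ⟨e1, e2, e3, e4⟩ := letters_map (QuotientGroup.mk' N) ls g15 hinv lsWords (QuotientGroup.mk'_surjective N) translation.closure_top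
  refine coversCosets_of_cert e1 e2 8 (by omega) (fun x hx => ?_) ⊤ ⊥ e4 lsq (fun l hl => ?_) lsub (by simp [lsub]) facts Simple.words subs lives entryFact Simple.table
    128 64 64 28 112 1 rfl (by omega) words_fit words_eq subs_fit subs_eq facts_ok lives_zero rows_ok
  · rcases gen_or_one x hx with h | h
    · exact Or.inl h
    · exact Or.inr (by rw [h, map_one])
  · rw [show lsq = ls ++ [lw] by decide +kernel, List.mem_append, List.mem_singleton] at hl
    rcases hl with hl | rfl
    · exact e3 l hl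
    · exact ⟨by decide, h1⟩

end Simple

end CfsgLib.CosetEnum.ON
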